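import Mathlib

/-!
# S3412 (the commuting graph determines `PSL₃(3)`): base definitions

* `CommEquiv H G`: a bijection `H ≃ G` sending `1` to `1` and preserving (and reflecting)
  commutation, i.e. an isomorphism of commuting graphs.
* `CommPlane G`: the commuting-graph data of `G = SL₃(3)` that the argument uses: the set `T` of the
  104 transvections (`= {g ≠ 1 : |C_G(g)| = 54}`), each with a centre and an axis (points and lines
  of the plane of order 3, both labelled by `Fin 13`), two transvections commuting iff they have the
  same centre or the same axis.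
-/

set_option autoImplicit false

namespace Cfsg.Agent.L33C

/-- an isomorphism of commuting graphs (extended by `1 ↦ 1`). -/
structure CommEquiv (H G : Type*) [Group H] [Group G] where
  /-- the underlying bijection -/
  toEquiv : H ≃ G
  map_one : toEquiv 1 = 1
  comm_iff : ∀ x y : H, x * y = y * x ↔ toEquiv x * toEquiv y = toEquiv y * toEquiv x


namespace CommEquiv

variable {H G K : Type*} [Group H] [Group G] [Group K]

instance : CoeFun (CommEquiv H G) (fun _ => H → G) := ⟨fun F => F.toEquiv⟩

theorem injective (F : CommEquiv H G) : Function.Injective F := F.toEquiv.injective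

theorem surjective (F : CommEquiv H G) : Function.Surjective F := F.toEquiv.surjective

theorem eq_one_iff (F : CommEquiv H G) {y : H} : F y = 1 ↔ y = 1 := by
  constructor
  · intro h
    apply F.injective
    rw [h]; exact F.map_one.symm
  · rintro rfl; exact F.map_one

/-- the inverse isomorphism of commuting graphs. -/
def symm (F : CommEquiv H G) : CommEquiv G H where
  toEquiv := F.toEquiv.symm
  map_one := by
    apply F.toEquiv.injective
    rw [Equiv.apply_symm_apply]; exact F.map_one.symm
  comm_iff x y := by
    have := F.comm_iff (F.toEquiv.symm x) (F.toEquiv.symm y)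
    rw [Equiv.apply_symm_apply, Equiv.apply_symm_apply] at this
    exact this.symm

@[simp] theorem symm_apply_apply (F : CommEquiv H G) (y : H) : F.symm (F y) = y :=
  F.toEquiv.symm_apply_apply y

@[simp] theorem apply_symm_apply (F : CommEquiv H G) (g : G) : F (F.symm g) = g :=
  F.toEquiv.apply_symm_apply g

/-- composition. -/
def trans (F : CommEquiv H G) (F' : CommEquiv G K) : CommEquiv H K where
  toEquiv := F.toEquiv.trans F'.toEquiv
  map_one := by
    show F'.toEquiv (F.toEquiv 1) = 1
    rw [F.map_one, F'.map_one]
  comm_iff x y := (F.comm_iff x y).trans (F'.comm_iff _ _)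

/-- a group isomorphism is an isomorphism of commuting graphs. -/
def ofMulEquiv (e : H ≃* G) : CommEquiv H G where
  toEquiv := e.toEquiv
  map_one := _root_.map_one e
  comm_iff x y := by
    show x * y = y * x ↔ e x * e y = e y * e x
    rw [← map_mul, ← map_mul]
    exact e.injective.eq_iff.symm

/-- conjugation by `h` is an automorphism of the commuting graph of `H`. -/
def conj (h : H) : CommEquiv H H := ofMulEquiv (MulAut.conj h)

@[simp] theorem conj_apply (h y : H) : (conj h : CommEquiv H H) y = h * y * h⁻¹ := rfl

/-- conjugation by `h : H`, transported to `G` along `F`: an automorphism of the commuting graph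
of `G`. -/
def conjTwist (F : CommEquiv H G) (h : H) : CommEquiv G G := (F.symm.trans (conj h)).trans F

theorem conjTwist_apply (F : CommEquiv H G) (h : H) (y : H) :
    F.conjTwist h (F y) = F (h * y * h⁻¹) := by
  show F ((conj h : CommEquiv H H) (F.symm (F y))) = _
  rw [symm_apply_apply, conj_apply]

end CommEquiv

/-- the commuting-graph data of `SL₃(3)`. -/
structure CommPlane (G : Type*) [Group G] where
  /-- the transvections -/
  T : Set G
  /-- the centre of a transvection (junk outside `T`) -/
  cen : G → Fin 13
  /-- the axis of a transvection (junk outside `T`) -/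
  axi : G → Fin 13
  /-- incidence between points and lines -/
  inc : Fin 13 → Fin 13 → Bool
  card_G : Nat.card G = 5616
  center_triv : ∀ z : G, (∀ g : G, z * g = g * z) → z = 1
  mem_T : ∀ g : G, g ∈ T ↔ g ≠ 1 ∧ Nat.card (Subgroup.centralizer ({g} : Set G)) = 54
  sq_ne : ∀ x ∈ T, x * x ≠ 1
  inc_T : ∀ x ∈ T, inc (cen x) (axi x) = true
  comm_T : ∀ x ∈ T, ∀ y ∈ T, (x * y = y * x ↔ cen x = cen y ∨ axi x = axi y)
  flag_T : ∀ p l : Fin 13, inc p l = true → ∃ x ∈ T, cen x = p ∧ axi x = l ∧
    ∀ y ∈ T, cen y = p → axi y = l → y = x ∨ y = x⁻¹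
  cent_P : ∀ (p : Fin 13) (g : G), (∀ x ∈ T, cen x = p → g * x = x * g) →
    g = 1 ∨ (g ∈ T ∧ cen g = p)
  cent_L : ∀ (l : Fin 13) (g : G), (∀ x ∈ T, axi x = l → g * x = x * g) →
    g = 1 ∨ (g ∈ T ∧ axi g = l)
  dcent_T : ∀ x ∈ T, ∀ z : G, (∀ g : G, g * x = x * g → z * g = g * z) →
    z = 1 ∨ z = x ∨ z = x⁻¹
  line_card : ∀ l : Fin 13, (Finset.univ.filter (fun p => inc p l = true)).card = 4
  point_card : ∀ p : Fin 13, (Finset.univ.filter (fun l => inc p l = true)).card = 4
  join : ∀ p q : Fin 13, p ≠ q → ∃! l, inc p l = true ∧ inc q l = true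
  meet : ∀ l m : Fin 13, l ≠ m → ∃! p, inc p l = true ∧ inc p m = true

end Cfsg.Agent.L33C
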