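import Mathlib
import Cfsg.Agent.L33C.Base

/-!
# S3412, G-side: the concrete data in `SL₃(3)` (definitions only)
-/

set_option autoImplicit false

namespace Cfsg.Agent.L33C

/-- `SL₃(3)`. -/
abbrev S33 := Matrix.SpecialLinearGroup (Fin 3) (ZMod 3)

/-- the 13 normalized vectors of `F₃³` (first nonzero coordinate `1`): labels of the points, and,
read as linear forms, of the lines. -/
def pt : Fin 13 → Fin 3 → ZMod 3 :=
  ![![1,0,0], ![1,0,1], ![1,0,2], ![1,1,0], ![1,1,1], ![1,1,2], ![1,2,0], ![1,2,1], ![1,2,2],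
    ![0,1,0], ![0,1,1], ![0,1,2], ![0,0,1]]

/-- the label of the point spanned by a nonzero vector (junk `0` at the zero vector).
In `F₃` the inverse of a nonzero `a` is `a` itself. -/
def ptIdx (v : Fin 3 → ZMod 3) : Fin 13 :=
  if v 0 ≠ 0 then Fin.ofNat 13 (3 * (v 1 * v 0).val + (v 2 * v 0).val)
  else if v 1 ≠ 0 then Fin.ofNat 13 (9 + (v 2 * v 1).val)
  else if v 2 ≠ 0 then 12 else 0

/-- incidence: the point `i` lies on the line `j`. -/
def incS (i j : Fin 13) : Bool := decide (pt j ⬝ᵥ pt i = 0)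

/-- `g - 1`. -/
def nil (g : S33) : Matrix (Fin 3) (Fin 3) (ZMod 3) := g.1 - 1

/-- the first nonzero column of a matrix. -/
def firstCol (M : Matrix (Fin 3) (Fin 3) (ZMod 3)) : Fin 3 → ZMod 3 :=
  if (fun i => M i 0) ≠ 0 then fun i => M i 0
  else if (fun i => M i 1) ≠ 0 then fun i => M i 1 else fun i => M i 2

/-- the first nonzero row of a matrix. -/
def firstRow (M : Matrix (Fin 3) (Fin 3) (ZMod 3)) : Fin 3 → ZMod 3 :=
  if M 0 ≠ 0 then M 0 else if M 1 ≠ 0 then M 1 else M 2

/-- the transvections of `SL₃(3)`. -/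
def TS : Set S33 := {g | g ≠ 1 ∧ nil g * nil g = 0}

/-- the centre of a transvection. -/
def cenS (g : S33) : Fin 13 := ptIdx (firstCol (nil g))

/-- the axis of a transvection. -/
def axiS (g : S33) : Fin 13 := ptIdx (firstRow (nil g))

/-- the transvection `1 + v φᵀ`. -/
def tv (v φ : Fin 3 → ZMod 3) : Matrix (Fin 3) (Fin 3) (ZMod 3) := 1 + Matrix.vecMulVec v φ

theorem ptIdx_pt : ∀ i : Fin 13, ptIdx (pt i) = i := by decide

theorem incS_line_card : ∀ l : Fin 13, (Finset.univ.filter (fun p => incS p l = true)).card = 4 := by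
  decide

theorem incS_point_card : ∀ p : Fin 13, (Finset.univ.filter (fun l => incS p l = true)).card = 4 := by
  decide

/-- the cross product of the label vectors: the line through two points, or the meet of two
lines. -/
def crossS (p q : Fin 13) : Fin 13 := ptIdx (crossProduct (pt p) (pt q))

theorem incS_cross : ∀ p q : Fin 13, p ≠ q →
    incS p (crossS p q) = true ∧ incS q (crossS p q) = true ∧
    incS (crossS p q) p = true ∧ incS (crossS p q) q = true ∧
    (∀ l, incS p l = true → incS q l = true → l = crossS p q) ∧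
    (∀ l, incS l p = true → incS l q = true → l = crossS p q) := by decide

theorem incS_join (p q : Fin 13) (hpq : p ≠ q) : ∃! l, incS p l = true ∧ incS q l = true := by
  obtain ⟨h1, h2, -, -, h5, -⟩ := incS_cross p q hpq
  exact ⟨crossS p q, ⟨h1, h2⟩, fun l hl => h5 l hl.1 hl.2⟩

theorem incS_meet (l m : Fin 13) (hlm : l ≠ m) : ∃! p, incS p l = true ∧ incS p m = true := by
  obtain ⟨-, -, h3, h4, -, h6⟩ := incS_cross l m hlm
  exact ⟨crossS l m, ⟨h3, h4⟩, fun p hp => h6 p hp.1 hp.2⟩

end Cfsg.Agent.L33C
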