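import Mathlib
import Cfsg.Agent.L33C.Base
import Cfsg.Agent.L33C.SLDefs

/-!
# S3412, G-side (helper1): the finite checks behind G1/G3 (kernel `decide`).
-/

set_option autoImplicit false
set_option maxRecDepth 100000

namespace Cfsg.Agent.L33C

/-- the nine-entry matrix. -/
def h1_mk (a b c d e f g h i : ZMod 3) : Matrix (Fin 3) (Fin 3) (ZMod 3) :=
  !![a, b, c; d, e, f; g, h, i]

theorem h1_mk_eta (N : Matrix (Fin 3) (Fin 3) (ZMod 3)) :
    N = h1_mk (N 0 0) (N 0 1) (N 0 2) (N 1 0) (N 1 1) (N 1 2) (N 2 0) (N 2 1) (N 2 2) := by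
  unfold h1_mk
  exact Matrix.eta_fin_three N

set_option maxHeartbeats 4000000 in
/-- a nonzero square-zero `3 × 3` matrix over `F₃` is `v φᵀ`, `v` its normalized first column. -/
theorem h1_nil_dec : ∀ a b c d e f g h i : ZMod 3,
    h1_mk a b c d e f g h i ≠ 0 → h1_mk a b c d e f g h i * h1_mk a b c d e f g h i = 0 →
    (firstRow (h1_mk a b c d e f g h i) ≠ 0 ∧
      firstRow (h1_mk a b c d e f g h i) ⬝ᵥ pt (ptIdx (firstCol (h1_mk a b c d e f g h i))) = 0 ∧
      h1_mk a b c d e f g h i = Matrix.vecMulVec (pt (ptIdx (firstCol (h1_mk a b c d e f g h i))))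
        (firstRow (h1_mk a b c d e f g h i))) := by
  decide +kernel

set_option maxHeartbeats 4000000 in
/-- the same with both factors normalized. -/
theorem h1_nil_dec2 : ∀ a b c d e f g h i : ZMod 3,
    h1_mk a b c d e f g h i ≠ 0 → h1_mk a b c d e f g h i * h1_mk a b c d e f g h i = 0 →
    (incS (ptIdx (firstCol (h1_mk a b c d e f g h i)))
        (ptIdx (firstRow (h1_mk a b c d e f g h i))) = true ∧
      ∃ s : ZMod 3, s ≠ 0 ∧ h1_mk a b c d e f g h i =
        s • Matrix.vecMulVec (pt (ptIdx (firstCol (h1_mk a b c d e f g h i))))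
          (pt (ptIdx (firstRow (h1_mk a b c d e f g h i))))) := by
  decide +kernel

/-- the flag transvections. -/
theorem h1_flag_dec : ∀ p l : Fin 13, incS p l = true →
    (pt l ⬝ᵥ pt p = 0 ∧ Matrix.vecMulVec (pt p) (pt l) ≠ 0 ∧
      ptIdx (firstCol (Matrix.vecMulVec (pt p) (pt l))) = p ∧
      ptIdx (firstRow (Matrix.vecMulVec (pt p) (pt l))) = l) := by
  decide +kernel

set_option maxHeartbeats 4000000 in
/-- commutation of the flag transvections. -/
theorem h1_comm_dec : ∀ p l : Fin 13, incS p l = true → ∀ q m : Fin 13, incS q m = true →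
    ∀ s t : ZMod 3, s ≠ 0 → t ≠ 0 →
    ((1 + s • Matrix.vecMulVec (pt p) (pt l)) * (1 + t • Matrix.vecMulVec (pt q) (pt m)) =
      (1 + t • Matrix.vecMulVec (pt q) (pt m)) * (1 + s • Matrix.vecMulVec (pt p) (pt l)) ↔
      p = q ∨ l = m) := by
  decide +kernel

end Cfsg.Agent.L33C
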