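import Mathlib
import Cfsg.Agent.L33C.Base
import Cfsg.Agent.L33C.SLDefs
import Cfsg.Agent.L33C.H1_TvDec

/-!
# S3412, G-side (helper1): the transvections of `SL₃(3)` are the `1 + v φᵀ` (G1 `TS_eq_tv`), and
G3: `sq_ne_TS`, `inc_TS`, `comm_TS`, `flag_TS`.
-/

set_option autoImplicit false

namespace Cfsg.Agent.L33C

theorem h1_nil_eq_zero_iff (g : S33) : nil g = 0 ↔ g = 1 := by
  unfold nil
  rw [sub_eq_zero]
  constructor
  · intro h; exact Subtype.ext h
  · rintro rfl; rfl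

theorem h1_mem_TS_iff (g : S33) : g ∈ TS ↔ nil g ≠ 0 ∧ nil g * nil g = 0 := by
  show (g ≠ 1 ∧ nil g * nil g = 0) ↔ _
  rw [Ne, ← h1_nil_eq_zero_iff]

theorem h1_val_eq (g : S33) : g.1 = 1 + nil g := by
  unfold nil; abel

/-- G1. -/
theorem TS_eq_tv (g : S33) (hg : g ∈ TS) :
    ∃ φ : Fin 3 → ZMod 3, φ ≠ 0 ∧ φ ⬝ᵥ pt (cenS g) = 0 ∧ g.1 = tv (pt (cenS g)) φ ∧
      axiS g = ptIdx φ := by
  obtain ⟨h1, h2⟩ := (h1_mem_TS_iff g).1 hg
  have key := h1_nil_dec (nil g 0 0) (nil g 0 1) (nil g 0 2) (nil g 1 0) (nil g 1 1) (nil g 1 2)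
    (nil g 2 0) (nil g 2 1) (nil g 2 2)
  rw [← h1_mk_eta (nil g)] at key
  obtain ⟨k1, k2, k3⟩ := key h1 h2
  refine ⟨firstRow (nil g), k1, k2, ?_, rfl⟩
  unfold tv
  rw [h1_val_eq g]
  congr 1

/-- the normalized form of a transvection. -/
theorem h1_TS_form (g : S33) (hg : g ∈ TS) :
    incS (cenS g) (axiS g) = true ∧ ∃ s : ZMod 3, s ≠ 0 ∧
      g.1 = 1 + s • Matrix.vecMulVec (pt (cenS g)) (pt (axiS g)) := by
  obtain ⟨h1, h2⟩ := (h1_mem_TS_iff g).1 hg
  have key := h1_nil_dec2 (nil g 0 0) (nil g 0 1) (nil g 0 2) (nil g 1 0) (nil g 1 1) (nil g 1 2)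
    (nil g 2 0) (nil g 2 1) (nil g 2 2)
  rw [← h1_mk_eta (nil g)] at key
  obtain ⟨k1, s, hs, k2⟩ := key h1 h2
  refine ⟨k1, s, hs, ?_⟩
  rw [h1_val_eq g]
  congr 1

/-- G3. -/
theorem sq_ne_TS (x : S33) (hx : x ∈ TS) : x * x ≠ 1 := by
  obtain ⟨h1, h2⟩ := (h1_mem_TS_iff x).1 hx
  intro h
  apply h1
  have hv : x.1 * x.1 = 1 := by
    have := congrArg Subtype.val h
    simpa using this
  rw [h1_val_eq x] at hv
  have e : (1 + nil x) * (1 + nil x) = 1 + (nil x + nil x) + nil x * nil x := by noncomm_ring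
  rw [e, h2, add_zero] at hv
  have h3 : nil x + nil x = 0 := by simpa using hv
  have h4 : nil x + nil x + nil x = 0 := by
    ext i j
    simp only [Matrix.add_apply, Matrix.zero_apply]
    generalize nil x i j = a
    revert a; decide
  rw [h3, zero_add] at h4
  exact h4

theorem inc_TS (x : S33) (hx : x ∈ TS) : incS (cenS x) (axiS x) = true :=
  (h1_TS_form x hx).1

theorem comm_TS (x : S33) (hx : x ∈ TS) (y : S33) (hy : y ∈ TS) :
    x * y = y * x ↔ cenS x = cenS y ∨ axiS x = axiS y := by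
  obtain ⟨ix, s, hs, ex⟩ := h1_TS_form x hx
  obtain ⟨iy, t, ht, ey⟩ := h1_TS_form y hy
  have key := h1_comm_dec _ _ ix _ _ iy s t hs ht
  rw [← ex, ← ey] at key
  rw [← key]
  constructor
  · intro h
    have := congrArg Subtype.val h
    simpa using this
  · intro h
    apply Subtype.ext
    simpa using h

theorem h1_ne_zero_zmod3 : ∀ s : ZMod 3, s ≠ 0 → s = 1 ∨ s = 2 := by decide

theorem flag_TS (p l : Fin 13) (h : incS p l = true) :
    ∃ x ∈ TS, cenS x = p ∧ axiS x = l ∧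
      ∀ y ∈ TS, cenS y = p → axiS y = l → y = x ∨ y = x⁻¹ := by
  obtain ⟨f1, f2, f3, f4⟩ := h1_flag_dec p l h
  have hAA : Matrix.vecMulVec (pt p) (pt l) * Matrix.vecMulVec (pt p) (pt l) = 0 := by
    rw [Matrix.vecMulVec_mul_vecMulVec, f1]
    ext i j
    simp [Matrix.vecMulVec_apply]
  have hdet : (1 + Matrix.vecMulVec (pt p) (pt l)).det = 1 := by
    rw [Matrix.vecMulVec_eq Unit, Matrix.det_one_add_replicateCol_mul_replicateRow, f1, add_zero]
  let x : S33 := ⟨1 + Matrix.vecMulVec (pt p) (pt l), hdet⟩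
  have hnil : nil x = Matrix.vecMulVec (pt p) (pt l) := by
    show (1 + Matrix.vecMulVec (pt p) (pt l)) - 1 = _
    abel
  have hxT : x ∈ TS := by
    rw [h1_mem_TS_iff, hnil]
    exact ⟨f2, hAA⟩
  have hcen : cenS x = p := by
    show ptIdx (firstCol (nil x)) = p
    rw [hnil]; exact f3
  have haxi : axiS x = l := by
    show ptIdx (firstRow (nil x)) = l
    rw [hnil]; exact f4
  refine ⟨x, hxT, hcen, haxi, ?_⟩
  intro y hy hyc hya
  obtain ⟨-, s, hs, ey⟩ := h1_TS_form y hy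
  rw [hyc, hya] at ey
  rcases h1_ne_zero_zmod3 s hs with rfl | rfl
  · left
    apply Subtype.ext
    rw [ey, one_smul]
  · right
    apply eq_inv_of_mul_eq_one_left
    apply Subtype.ext
    show y.1 * (1 + Matrix.vecMulVec (pt p) (pt l)) = 1
    rw [ey]
    have e : (1 + (2 : ZMod 3) • Matrix.vecMulVec (pt p) (pt l)) *
        (1 + Matrix.vecMulVec (pt p) (pt l)) =
        1 + ((2 : ZMod 3) + 1) • Matrix.vecMulVec (pt p) (pt l) +
          (2 : ZMod 3) • (Matrix.vecMulVec (pt p) (pt l) * Matrix.vecMulVec (pt p) (pt l)) := by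
      rw [add_smul, one_smul, mul_add, add_mul, add_mul, one_mul, mul_one, one_mul,
        Matrix.smul_mul]
      abel
    rw [e, hAA, smul_zero, add_zero]
    have : ((2 : ZMod 3) + 1) = 0 := by decide
    rw [this, zero_smul, add_zero]

end Cfsg.Agent.L33C
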