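import Mathlib
import Cfsg.Agent.L33C.SLDefs

/-!
# S3412, G-side, piece G4: centralizers of the centre-fibres and axis-fibres of `SL₃(3)`

`cent_P_S33`, `cent_L_S33`: an element commuting with all transvections of centre `p` (of axis `l`)
is `1` or such a transvection.  Two witness transvections per point; then one `decide` in which the
nine entries of the matrix are bound one group at a time, each entrywise commutation equation being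
tested as soon as its entries are bound (so that only a few hundred partial matrices are visited).
-/

set_option autoImplicit false

namespace Cfsg.Agent.L33C

/-- two normalized vectors orthogonal to `pt p` -/
def h2_phi1 : Fin 13 → Fin 3 → ZMod 3 :=
  ![![0,1,0], ![1,0,2], ![1,0,1], ![1,2,0], ![1,0,2], ![1,0,1], ![1,1,0], ![1,0,2], ![1,0,1],
    ![1,0,0], ![1,0,0], ![1,0,0], ![1,0,0]]
/-- two normalized vectors orthogonal to `pt p` -/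
def h2_phi2 : Fin 13 → Fin 3 → ZMod 3 :=
  ![![0,1,1], ![1,1,2], ![1,1,1], ![1,2,1], ![1,1,1], ![1,1,2], ![1,1,1], ![1,1,0], ![1,1,0],
    ![1,0,1], ![1,1,2], ![1,1,1], ![1,1,0]]

/-- entrywise commutation of two `3 × 3` matrices -/
theorem h2_C9_of_comm (A B : Matrix (Fin 3) (Fin 3) (ZMod 3)) (h : A * B = B * A) (r s : Fin 3) :
    A r 0 * B 0 s + A r 1 * B 1 s + A r 2 * B 2 s =
      B r 0 * A 0 s + B r 1 * A 1 s + B r 2 * A 2 s := by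
  have := congrFun (congrFun h r) s
  simpa [Matrix.mul_apply, Fin.sum_univ_three] using this

/-! ### the witnesses -/

/-- the witness matrices of centre `p` -/
def h2_X1 (p : Fin 13) : Matrix (Fin 3) (Fin 3) (ZMod 3) := tv (pt p) (h2_phi1 p)
/-- the witness matrices of centre `p` -/
def h2_X2 (p : Fin 13) : Matrix (Fin 3) (Fin 3) (ZMod 3) := tv (pt p) (h2_phi2 p)
/-- the witness matrices of axis `l` -/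
def h2_Y1 (l : Fin 13) : Matrix (Fin 3) (Fin 3) (ZMod 3) := tv (h2_phi1 l) (pt l)
/-- the witness matrices of axis `l` -/
def h2_Y2 (l : Fin 13) : Matrix (Fin 3) (Fin 3) (ZMod 3) := tv (h2_phi2 l) (pt l)

theorem h2_det1 : ∀ p : Fin 13, (h2_X1 p).det = 1 := by
  intro p
  rw [Matrix.det_fin_three]
  revert p
  decide

theorem h2_det2 : ∀ p : Fin 13, (h2_X2 p).det = 1 := by
  intro p
  rw [Matrix.det_fin_three]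
  revert p
  decide

theorem h2_det1' : ∀ p : Fin 13, (h2_Y1 p).det = 1 := by
  intro p
  rw [Matrix.det_fin_three]
  revert p
  decide

theorem h2_det2' : ∀ p : Fin 13, (h2_Y2 p).det = 1 := by
  intro p
  rw [Matrix.det_fin_three]
  revert p
  decide

/-- transvections of centre `p` -/
def h2_x1 (p : Fin 13) : S33 := ⟨h2_X1 p, h2_det1 p⟩
/-- transvections of centre `p` -/
def h2_x2 (p : Fin 13) : S33 := ⟨h2_X2 p, h2_det2 p⟩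
/-- transvections of axis `l` -/
def h2_y1 (l : Fin 13) : S33 := ⟨h2_Y1 l, h2_det1' l⟩
/-- transvections of axis `l` -/
def h2_y2 (l : Fin 13) : S33 := ⟨h2_Y2 l, h2_det2' l⟩

theorem h2_wit : ∀ p : Fin 13,
    (h2_X1 p ≠ 1 ∧ (h2_X1 p - 1) * (h2_X1 p - 1) = 0 ∧ ptIdx (firstCol (h2_X1 p - 1)) = p) ∧
    (h2_X2 p ≠ 1 ∧ (h2_X2 p - 1) * (h2_X2 p - 1) = 0 ∧ ptIdx (firstCol (h2_X2 p - 1)) = p) ∧
    (h2_Y1 p ≠ 1 ∧ (h2_Y1 p - 1) * (h2_Y1 p - 1) = 0 ∧ ptIdx (firstRow (h2_Y1 p - 1)) = p) ∧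
    (h2_Y2 p ≠ 1 ∧ (h2_Y2 p - 1) * (h2_Y2 p - 1) = 0 ∧ ptIdx (firstRow (h2_Y2 p - 1)) = p) := by
  decide +kernel

theorem h2_mem_TS_of (g : S33) (h1 : g.1 ≠ 1) (h2 : (g.1 - 1) * (g.1 - 1) = 0) : g ∈ TS := by
  refine ⟨?_, h2⟩
  intro h
  exact h1 (by rw [h]; rfl)

theorem h2_x1_mem (p : Fin 13) : h2_x1 p ∈ TS ∧ cenS (h2_x1 p) = p :=
  ⟨h2_mem_TS_of _ (h2_wit p).1.1 (h2_wit p).1.2.1, (h2_wit p).1.2.2⟩

theorem h2_x2_mem (p : Fin 13) : h2_x2 p ∈ TS ∧ cenS (h2_x2 p) = p :=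
  ⟨h2_mem_TS_of _ (h2_wit p).2.1.1 (h2_wit p).2.1.2.1, (h2_wit p).2.1.2.2⟩

theorem h2_y1_mem (l : Fin 13) : h2_y1 l ∈ TS ∧ axiS (h2_y1 l) = l :=
  ⟨h2_mem_TS_of _ (h2_wit l).2.2.1.1 (h2_wit l).2.2.1.2.1, (h2_wit l).2.2.1.2.2⟩

theorem h2_y2_mem (l : Fin 13) : h2_y2 l ∈ TS ∧ axiS (h2_y2 l) = l :=
  ⟨h2_mem_TS_of _ (h2_wit l).2.2.2.1 (h2_wit l).2.2.2.2.1, (h2_wit l).2.2.2.2.2⟩

/-! ### the two enumerations -/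

set_option maxRecDepth 100000 in
set_option synthInstance.maxSize 4000 in
theorem h2_coreP : ∀ p : Fin 13,
  ∀ a b c d g : ZMod 3,
    (a * h2_X1 p 0 0 + b * h2_X1 p 1 0 + c * h2_X1 p 2 0 = h2_X1 p 0 0 * a + h2_X1 p 0 1 * d + h2_X1 p 0 2 * g) →
    (a * h2_X2 p 0 0 + b * h2_X2 p 1 0 + c * h2_X2 p 2 0 = h2_X2 p 0 0 * a + h2_X2 p 0 1 * d + h2_X2 p 0 2 * g) →
  ∀ e h : ZMod 3,
    (a * h2_X1 p 0 1 + b * h2_X1 p 1 1 + c * h2_X1 p 2 1 = h2_X1 p 0 0 * b + h2_X1 p 0 1 * e + h2_X1 p 0 2 * h) →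
    (a * h2_X2 p 0 1 + b * h2_X2 p 1 1 + c * h2_X2 p 2 1 = h2_X2 p 0 0 * b + h2_X2 p 0 1 * e + h2_X2 p 0 2 * h) →
  ∀ f : ZMod 3,
    (d * h2_X1 p 0 0 + e * h2_X1 p 1 0 + f * h2_X1 p 2 0 = h2_X1 p 1 0 * a + h2_X1 p 1 1 * d + h2_X1 p 1 2 * g) →
    (d * h2_X2 p 0 0 + e * h2_X2 p 1 0 + f * h2_X2 p 2 0 = h2_X2 p 1 0 * a + h2_X2 p 1 1 * d + h2_X2 p 1 2 * g) →
    (d * h2_X1 p 0 1 + e * h2_X1 p 1 1 + f * h2_X1 p 2 1 = h2_X1 p 1 0 * b + h2_X1 p 1 1 * e + h2_X1 p 1 2 * h) →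
    (d * h2_X2 p 0 1 + e * h2_X2 p 1 1 + f * h2_X2 p 2 1 = h2_X2 p 1 0 * b + h2_X2 p 1 1 * e + h2_X2 p 1 2 * h) →
  ∀ i : ZMod 3,
    (a * h2_X1 p 0 2 + b * h2_X1 p 1 2 + c * h2_X1 p 2 2 = h2_X1 p 0 0 * c + h2_X1 p 0 1 * f + h2_X1 p 0 2 * i) →
    (a * h2_X2 p 0 2 + b * h2_X2 p 1 2 + c * h2_X2 p 2 2 = h2_X2 p 0 0 * c + h2_X2 p 0 1 * f + h2_X2 p 0 2 * i) →
    (d * h2_X1 p 0 2 + e * h2_X1 p 1 2 + f * h2_X1 p 2 2 = h2_X1 p 1 0 * c + h2_X1 p 1 1 * f + h2_X1 p 1 2 * i) →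
    (d * h2_X2 p 0 2 + e * h2_X2 p 1 2 + f * h2_X2 p 2 2 = h2_X2 p 1 0 * c + h2_X2 p 1 1 * f + h2_X2 p 1 2 * i) →
    (g * h2_X1 p 0 0 + h * h2_X1 p 1 0 + i * h2_X1 p 2 0 = h2_X1 p 2 0 * a + h2_X1 p 2 1 * d + h2_X1 p 2 2 * g) →
    (g * h2_X2 p 0 0 + h * h2_X2 p 1 0 + i * h2_X2 p 2 0 = h2_X2 p 2 0 * a + h2_X2 p 2 1 * d + h2_X2 p 2 2 * g) →
    (g * h2_X1 p 0 1 + h * h2_X1 p 1 1 + i * h2_X1 p 2 1 = h2_X1 p 2 0 * b + h2_X1 p 2 1 * e + h2_X1 p 2 2 * h) →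
    (g * h2_X2 p 0 1 + h * h2_X2 p 1 1 + i * h2_X2 p 2 1 = h2_X2 p 2 0 * b + h2_X2 p 2 1 * e + h2_X2 p 2 2 * h) →
    (g * h2_X1 p 0 2 + h * h2_X1 p 1 2 + i * h2_X1 p 2 2 = h2_X1 p 2 0 * c + h2_X1 p 2 1 * f + h2_X1 p 2 2 * i) →
    (g * h2_X2 p 0 2 + h * h2_X2 p 1 2 + i * h2_X2 p 2 2 = h2_X2 p 2 0 * c + h2_X2 p 2 1 * f + h2_X2 p 2 2 * i) →
    a * e * i - a * f * h - b * d * i + b * f * g + c * d * h - c * e * g = 1 →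
    (!![a, b, c; d, e, f; g, h, i] = (1 : Matrix (Fin 3) (Fin 3) (ZMod 3)) ∨
      ((!![a, b, c; d, e, f; g, h, i] - 1) * (!![a, b, c; d, e, f; g, h, i] - 1) = 0 ∧
        ptIdx (firstCol (!![a, b, c; d, e, f; g, h, i] - 1)) = p)) := by
  decide +kernel

set_option maxRecDepth 100000 in
set_option synthInstance.maxSize 4000 in
theorem h2_coreL : ∀ l : Fin 13,
  ∀ a b c d g : ZMod 3,
    (a * h2_Y1 l 0 0 + b * h2_Y1 l 1 0 + c * h2_Y1 l 2 0 = h2_Y1 l 0 0 * a + h2_Y1 l 0 1 * d + h2_Y1 l 0 2 * g) →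
    (a * h2_Y2 l 0 0 + b * h2_Y2 l 1 0 + c * h2_Y2 l 2 0 = h2_Y2 l 0 0 * a + h2_Y2 l 0 1 * d + h2_Y2 l 0 2 * g) →
  ∀ e h : ZMod 3,
    (a * h2_Y1 l 0 1 + b * h2_Y1 l 1 1 + c * h2_Y1 l 2 1 = h2_Y1 l 0 0 * b + h2_Y1 l 0 1 * e + h2_Y1 l 0 2 * h) →
    (a * h2_Y2 l 0 1 + b * h2_Y2 l 1 1 + c * h2_Y2 l 2 1 = h2_Y2 l 0 0 * b + h2_Y2 l 0 1 * e + h2_Y2 l 0 2 * h) →
  ∀ f : ZMod 3,
    (d * h2_Y1 l 0 0 + e * h2_Y1 l 1 0 + f * h2_Y1 l 2 0 = h2_Y1 l 1 0 * a + h2_Y1 l 1 1 * d + h2_Y1 l 1 2 * g) →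
    (d * h2_Y2 l 0 0 + e * h2_Y2 l 1 0 + f * h2_Y2 l 2 0 = h2_Y2 l 1 0 * a + h2_Y2 l 1 1 * d + h2_Y2 l 1 2 * g) →
    (d * h2_Y1 l 0 1 + e * h2_Y1 l 1 1 + f * h2_Y1 l 2 1 = h2_Y1 l 1 0 * b + h2_Y1 l 1 1 * e + h2_Y1 l 1 2 * h) →
    (d * h2_Y2 l 0 1 + e * h2_Y2 l 1 1 + f * h2_Y2 l 2 1 = h2_Y2 l 1 0 * b + h2_Y2 l 1 1 * e + h2_Y2 l 1 2 * h) →
  ∀ i : ZMod 3,
    (a * h2_Y1 l 0 2 + b * h2_Y1 l 1 2 + c * h2_Y1 l 2 2 = h2_Y1 l 0 0 * c + h2_Y1 l 0 1 * f + h2_Y1 l 0 2 * i) →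
    (a * h2_Y2 l 0 2 + b * h2_Y2 l 1 2 + c * h2_Y2 l 2 2 = h2_Y2 l 0 0 * c + h2_Y2 l 0 1 * f + h2_Y2 l 0 2 * i) →
    (d * h2_Y1 l 0 2 + e * h2_Y1 l 1 2 + f * h2_Y1 l 2 2 = h2_Y1 l 1 0 * c + h2_Y1 l 1 1 * f + h2_Y1 l 1 2 * i) →
    (d * h2_Y2 l 0 2 + e * h2_Y2 l 1 2 + f * h2_Y2 l 2 2 = h2_Y2 l 1 0 * c + h2_Y2 l 1 1 * f + h2_Y2 l 1 2 * i) →
    (g * h2_Y1 l 0 0 + h * h2_Y1 l 1 0 + i * h2_Y1 l 2 0 = h2_Y1 l 2 0 * a + h2_Y1 l 2 1 * d + h2_Y1 l 2 2 * g) →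
    (g * h2_Y2 l 0 0 + h * h2_Y2 l 1 0 + i * h2_Y2 l 2 0 = h2_Y2 l 2 0 * a + h2_Y2 l 2 1 * d + h2_Y2 l 2 2 * g) →
    (g * h2_Y1 l 0 1 + h * h2_Y1 l 1 1 + i * h2_Y1 l 2 1 = h2_Y1 l 2 0 * b + h2_Y1 l 2 1 * e + h2_Y1 l 2 2 * h) →
    (g * h2_Y2 l 0 1 + h * h2_Y2 l 1 1 + i * h2_Y2 l 2 1 = h2_Y2 l 2 0 * b + h2_Y2 l 2 1 * e + h2_Y2 l 2 2 * h) →
    (g * h2_Y1 l 0 2 + h * h2_Y1 l 1 2 + i * h2_Y1 l 2 2 = h2_Y1 l 2 0 * c + h2_Y1 l 2 1 * f + h2_Y1 l 2 2 * i) →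
    (g * h2_Y2 l 0 2 + h * h2_Y2 l 1 2 + i * h2_Y2 l 2 2 = h2_Y2 l 2 0 * c + h2_Y2 l 2 1 * f + h2_Y2 l 2 2 * i) →
    a * e * i - a * f * h - b * d * i + b * f * g + c * d * h - c * e * g = 1 →
    (!![a, b, c; d, e, f; g, h, i] = (1 : Matrix (Fin 3) (Fin 3) (ZMod 3)) ∨
      ((!![a, b, c; d, e, f; g, h, i] - 1) * (!![a, b, c; d, e, f; g, h, i] - 1) = 0 ∧
        ptIdx (firstRow (!![a, b, c; d, e, f; g, h, i] - 1)) = l)) := by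
  decide +kernel

/-! ### the theorems -/

theorem h2_finish (g : S33) (q : Fin 13) (F : Matrix (Fin 3) (Fin 3) (ZMod 3) → Fin 3 → ZMod 3)
    (h : g.1 = 1 ∨ ((g.1 - 1) * (g.1 - 1) = 0 ∧ ptIdx (F (g.1 - 1)) = q)) :
    g = 1 ∨ (g ∈ TS ∧ ptIdx (F (nil g)) = q) := by
  by_cases hg : g = 1
  · exact Or.inl hg
  · right
    rcases h with h | ⟨h1, h2⟩
    · exact absurd (Subtype.ext h) hg
    · exact ⟨⟨hg, h1⟩, h2⟩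

/-- G4: an element commuting with all transvections of centre `p`. -/
theorem cent_P_S33 (p : Fin 13) (g : S33)
    (h : ∀ x ∈ TS, cenS x = p → g * x = x * g) : g = 1 ∨ (g ∈ TS ∧ cenS g = p) := by
  have e1 : g.1 * h2_X1 p = h2_X1 p * g.1 :=
    congrArg Subtype.val (h (h2_x1 p) (h2_x1_mem p).1 (h2_x1_mem p).2)
  have e2 : g.1 * h2_X2 p = h2_X2 p * g.1 :=
    congrArg Subtype.val (h (h2_x2 p) (h2_x2_mem p).1 (h2_x2_mem p).2)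
  have hd := g.2
  rw [Matrix.det_fin_three] at hd
  have c1 := h2_C9_of_comm _ _ e1
  have c2 := h2_C9_of_comm _ _ e2
  have key := h2_coreP p _ _ _ _ _ (c1 0 0) (c2 0 0) _ _ (c1 0 1) (c2 0 1) _ (c1 1 0) (c2 1 0) (c1 1 1) (c2 1 1) _
    (c1 0 2) (c2 0 2) (c1 1 2) (c2 1 2) (c1 2 0) (c2 2 0) (c1 2 1) (c2 2 1) (c1 2 2) (c2 2 2) hd
  rw [← Matrix.eta_fin_three] at key
  exact h2_finish g p firstCol key

/-- G4: an element commuting with all transvections of axis `l`. -/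
theorem cent_L_S33 (l : Fin 13) (g : S33)
    (h : ∀ x ∈ TS, axiS x = l → g * x = x * g) : g = 1 ∨ (g ∈ TS ∧ axiS g = l) := by
  have e1 : g.1 * h2_Y1 l = h2_Y1 l * g.1 :=
    congrArg Subtype.val (h (h2_y1 l) (h2_y1_mem l).1 (h2_y1_mem l).2)
  have e2 : g.1 * h2_Y2 l = h2_Y2 l * g.1 :=
    congrArg Subtype.val (h (h2_y2 l) (h2_y2_mem l).1 (h2_y2_mem l).2)
  have hd := g.2
  rw [Matrix.det_fin_three] at hd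
  have c1 := h2_C9_of_comm _ _ e1
  have c2 := h2_C9_of_comm _ _ e2
  have key := h2_coreL l _ _ _ _ _ (c1 0 0) (c2 0 0) _ _ (c1 0 1) (c2 0 1) _ (c1 1 0) (c2 1 0) (c1 1 1) (c2 1 1) _
    (c1 0 2) (c2 0 2) (c1 1 2) (c2 1 2) (c1 2 0) (c2 2 0) (c1 2 1) (c2 2 1) (c1 2 2) (c2 2 2) hd
  rw [← Matrix.eta_fin_three] at key
  exact h2_finish g l firstRow key

end Cfsg.Agent.L33C
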