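import Cfsg.Agent.L33C.H1_Tv
import Cfsg.Agent.L33C.H2_Cent

/-!
# S3412, G-side, `dcent_TS`: `Z(C(x)) = {1, x, x⁻¹}` for a transvection `x` of `SL₃(3)`

No new computation: `C(x)` contains every transvection with the centre of `x` and every
transvection with the axis of `x` (`comm_TS`), so an element `z` centralizing `C(x)` is `1` or a
transvection with the same centre (`cent_P_S33`) and the same axis (`cent_L_S33`), and a flag carries
only `x₀^{±1}` (`flag_TS`).
-/

set_option autoImplicit false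

namespace Cfsg.Agent.L33C

/-- `Z(C(x)) = {1, x, x⁻¹}`. -/
theorem dcent_TS (x : S33) (hx : x ∈ TS) (z : S33)
    (h : ∀ g : S33, g * x = x * g → z * g = g * z) : z = 1 ∨ z = x ∨ z = x⁻¹ := by
  have hP := cent_P_S33 (cenS x) z
    (fun y hy hyc => h y ((comm_TS y hy x hx).2 (Or.inl hyc)))
  have hL := cent_L_S33 (axiS x) z
    (fun y hy hya => h y ((comm_TS y hy x hx).2 (Or.inr hya)))
  rcases hP with h1 | ⟨hzT, hzc⟩
  · exact Or.inl h1
  rcases hL with h1 | ⟨-, hza⟩
  · exact Or.inl h1
  right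
  obtain ⟨x0, -, -, -, huniq⟩ := flag_TS (cenS x) (axiS x) (inc_TS x hx)
  rcases huniq x hx rfl rfl with ex | ex <;> rcases huniq z hzT hzc hza with ez | ez
  · exact Or.inl (ez.trans ex.symm)
  · right; rw [ez, ex]
  · right; rw [ez, ex, inv_inv]
  · exact Or.inl (ez.trans ex.symm)

end Cfsg.Agent.L33C
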