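import Mathlib
import Cfsg.Agent.L33C.SLDefs
import Cfsg.Agent.Helper7.LinearCard

/-!
# S3412 / L33C, piece G1 (helper7): `|SL₃(3)| = 5616` and the centre of `SL₃(3)` is trivial
-/

set_option autoImplicit false

namespace Cfsg.Agent.L33C

/-- G1: `|SL₃(3)| = 5616`. -/
theorem card_S33 : Nat.card S33 = 5616 := by
  have h1 := Matrix.card_GL_field (𝔽 := ZMod 3) 3
  have h2 := Cfsg.Agent.Helper7.card_units_mul_card_SL (n := Fin 3) (F := ZMod 3)
  have hF : Fintype.card (ZMod 3) = 3 := ZMod.card 3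
  rw [hF] at h1 h2
  have h1' : Nat.card (GL (Fin 3) (ZMod 3)) = 11232 := by
    rw [h1]; simp [Fin.prod_univ_succ]
  rw [h1'] at h2
  show Nat.card (Matrix.SpecialLinearGroup (Fin 3) (ZMod 3)) = 5616
  omega

/-- G1: the centre of `SL₃(3)` is trivial. -/
theorem center_triv_S33 : ∀ z : S33, (∀ g : S33, z * g = g * z) → z = 1 := by
  intro z hz
  have h1 : z ∈ Subgroup.center S33 := by
    rw [Subgroup.mem_center_iff]
    intro g
    exact (hz g).symm
  obtain ⟨r, hr, hr'⟩ := Matrix.SpecialLinearGroup.mem_center_iff.mp h1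
  have h2 : r = 1 := by
    have h3 : ∀ r : ZMod 3, r ^ 3 = 1 → r = 1 := by decide
    apply h3
    simpa using hr
  subst h2
  apply Subtype.ext
  rw [← hr']
  simp

end Cfsg.Agent.L33C
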