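import Mathlib

/-!
# S3412 (project L33C), piece G2, the abstract Sylow step (helper3)

In a group of order `5616 = 2⁴·3³·13`, an element `g` with `|C(g)| = 54` has a conjugate which
centralizes any given subgroup `U` of order `27`.
-/

set_option autoImplicit false

namespace Cfsg.Agent.L33C

theorem h3_factorization_5616 : (5616 : ℕ).factorization 3 = 3 := by
  rw [show (5616 : ℕ) = 3 ^ 3 * 208 by norm_num, Nat.factorization_mul (by norm_num) (by norm_num),
    Nat.factorization_pow]
  simp [Nat.Prime.factorization_self Nat.prime_three,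
    Nat.factorization_eq_zero_of_not_dvd (show ¬ 3 ∣ 208 by norm_num)]

theorem h3_factorization_54 : (54 : ℕ).factorization 3 = 3 := by
  rw [show (54 : ℕ) = 3 ^ 3 * 2 by norm_num, Nat.factorization_mul (by norm_num) (by norm_num),
    Nat.factorization_pow]
  simp [Nat.Prime.factorization_self Nat.prime_three,
    Nat.factorization_eq_zero_of_not_dvd (show ¬ 3 ∣ 2 by norm_num)]

/-- **G2, abstract Sylow step.** -/
theorem h3_conj_into_centralizer {G : Type*} [Group G] [Finite G] (hG : Nat.card G = 5616) (g : G)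
    (hg : Nat.card (Subgroup.centralizer ({g} : Set G)) = 54) (U : Subgroup G)
    (hU : Nat.card U = 27) :
    ∃ c : G, ∀ u ∈ U, (c * g * c⁻¹) * u = u * (c * g * c⁻¹) := by
  classical
  have : Fact (Nat.Prime 3) := ⟨Nat.prime_three⟩
  set C := Subgroup.centralizer ({g} : Set G) with hC
  -- a Sylow 3-subgroup of `C(g)`
  obtain ⟨Q⟩ : Nonempty (Sylow 3 C) := inferInstance
  have hQ : Nat.card Q = 27 := by
    rw [Sylow.card_eq_multiplicity, hg, h3_factorization_54]; norm_num
  set P : Subgroup G := (Q : Subgroup C).map C.subtype with hP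
  have hPcard : Nat.card P = 27 := by
    rw [hP, Subgroup.card_map_of_injective C.subtype_injective]
    exact hQ
  have hPC : P ≤ C := by
    rintro _ ⟨q, -, rfl⟩
    exact q.2
  -- both are Sylow 3-subgroups of `G`
  have h27 : (27 : ℕ) = 3 ^ (Nat.card G).factorization 3 := by
    rw [hG, h3_factorization_5616]; norm_num
  let P' : Sylow 3 G := Sylow.ofCard P (by rw [hPcard]; exact h27)
  let U' : Sylow 3 G := Sylow.ofCard U (by rw [hU]; exact h27)
  obtain ⟨c, hc⟩ := MulAction.exists_smul_eq G P' U'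
  refine ⟨c, fun u hu => ?_⟩
  have hu' : u ∈ ((c • P' : Sylow 3 G) : Subgroup G) := by
    rw [hc]; exact hu
  rw [Sylow.coe_subgroup_smul] at hu'
  obtain ⟨p, hp, rfl⟩ := hu'
  have hpg : p * g = g * p := Subgroup.mem_centralizer_singleton_iff.mp (hPC hp)
  show c * g * c⁻¹ * (MulAut.conj c p) = (MulAut.conj c p) * (c * g * c⁻¹)
  rw [MulAut.conj_apply]
  calc c * g * c⁻¹ * (c * p * c⁻¹) = c * (g * p) * c⁻¹ := by group
    _ = c * (p * g) * c⁻¹ := by rw [hpg]
    _ = c * p * c⁻¹ * (c * g * c⁻¹) := by group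

end Cfsg.Agent.L33C
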