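import Mathlib
import Cfsg.Agent.L33C.SLDefs

/-!
# S3412 / L33C, piece of G2 (helper3): the unitriangular subgroup of `SL₃(3)`, of order 27
-/

set_option autoImplicit false

namespace Cfsg.Agent.L33C

/-- the upper unitriangular matrices of `SL₃(3)`. -/
def h3_U : Subgroup S33 where
  carrier := {M | M.1 1 0 = 0 ∧ M.1 2 0 = 0 ∧ M.1 2 1 = 0 ∧ M.1 0 0 = 1 ∧ M.1 1 1 = 1 ∧
    M.1 2 2 = 1}
  mul_mem' := by
    rintro a b ⟨a1, a2, a3, a4, a5, a6⟩ ⟨b1, b2, b3, b4, b5, b6⟩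
    simp only [Set.mem_ofPred_eq, Matrix.SpecialLinearGroup.coe_mul, Matrix.mul_apply,
      Fin.sum_univ_three]
    simp [a1, a2, a3, a4, a5, a6, b1, b2, b3, b4, b5, b6]
  one_mem' := by
    simp
  inv_mem' := by
    rintro a ⟨a1, a2, a3, a4, a5, a6⟩
    simp only [Set.mem_ofPred_eq, Matrix.SpecialLinearGroup.coe_inv, Matrix.adjugate_fin_three,
      Matrix.of_apply, Matrix.cons_val', Matrix.cons_val_zero, Matrix.cons_val_one]
    simp [a1, a2, a3, a4, a5, a6]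

theorem h3_mem_U (M : S33) : M ∈ h3_U ↔ (M.1 1 0 = 0 ∧ M.1 2 0 = 0 ∧ M.1 2 1 = 0 ∧ M.1 0 0 = 1 ∧
    M.1 1 1 = 1 ∧ M.1 2 2 = 1) := Iff.rfl

/-- the unitriangular matrix with the three given upper entries. -/
def h3_ut (a b c : ZMod 3) : S33 :=
  ⟨!![1, a, b; 0, 1, c; 0, 0, 1], by simp [Matrix.det_fin_three]⟩

theorem h3_ut_mem (a b c : ZMod 3) : h3_ut a b c ∈ h3_U := by
  rw [h3_mem_U]
  simp [h3_ut]

/-- `h3_U` is in bijection with `F₃³`. -/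
def h3_U_equiv : h3_U ≃ ZMod 3 × ZMod 3 × ZMod 3 where
  toFun M := (M.1.1 0 1, M.1.1 0 2, M.1.1 1 2)
  invFun t := ⟨h3_ut t.1 t.2.1 t.2.2, h3_ut_mem _ _ _⟩
  left_inv := by
    rintro ⟨M, a1, a2, a3, a4, a5, a6⟩
    apply Subtype.ext
    apply Subtype.ext
    ext i j
    fin_cases i <;> fin_cases j <;> simp [h3_ut, a1, a2, a3, a4, a5, a6]
  right_inv := by
    rintro ⟨a, b, c⟩
    simp [h3_ut]

theorem h3_card_U : Nat.card h3_U = 27 := by
  rw [Nat.card_congr h3_U_equiv]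
  simp [Nat.card_eq_fintype_card]

end Cfsg.Agent.L33C
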