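import Mathlib
import Cfsg.Agent.L33C.SLDefs
import Cfsg.Agent.L33C.H7_Card
import Cfsg.Agent.L33C.H3_Sylow
import Cfsg.Agent.L33C.H3_Unitri

/-!
# S3412 / L33C, piece G2, the (⇐) half (helper7): an element `g ≠ 1` of `SL₃(3)` with
`|C(g)| = 54` is a transvection

By helper3's Sylow step a conjugate of `g` centralizes the unitriangular group `h3_U`, in particular
`1 + E₀₁` and `1 + E₁₂`; a matrix commuting with both is `1 + c E₀₂`; `TS` is invariant under
conjugation.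
-/

set_option autoImplicit false

namespace Cfsg.Agent.L33C

/-- raw `3 × 3` matrices over `F₃`. -/
abbrev h7_Mat := Matrix (Fin 3) (Fin 3) (ZMod 3)

/-- `1 + E₀₁`. -/
def h7_U1m : h7_Mat := !![1,1,0;0,1,0;0,0,1]
/-- `1 + E₁₂`. -/
def h7_U2m : h7_Mat := !![1,0,0;0,1,1;0,0,1]

theorem h7_det_U1m : h7_U1m.det = 1 := by decide
theorem h7_det_U2m : h7_U2m.det = 1 := by decide

/-- `1 + E₀₁` in `SL₃(3)`. -/
def h7_u1 : S33 := ⟨h7_U1m, h7_det_U1m⟩
/-- `1 + E₁₂` in `SL₃(3)`. -/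
def h7_u2 : S33 := ⟨h7_U2m, h7_det_U2m⟩

/-- entries of a matrix commuting with `1 + E₀₁`. -/
theorem h7_comm_U1m (M : h7_Mat) (h : M * h7_U1m = h7_U1m * M) :
    M 1 0 = 0 ∧ M 2 0 = 0 ∧ M 1 2 = 0 ∧ M 0 0 = M 1 1 := by
  have e00 := congr_fun (congr_fun h 0) 0
  have e01 := congr_fun (congr_fun h 0) 1
  have e02 := congr_fun (congr_fun h 0) 2
  have e21 := congr_fun (congr_fun h 2) 1
  simp [Matrix.mul_apply, Fin.sum_univ_three, h7_U1m] at e00 e01 e02 e21
  exact ⟨e00, e21, e02, by linear_combination e01⟩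

/-- entries of a matrix commuting with `1 + E₁₂`. -/
theorem h7_comm_U2m (M : h7_Mat) (h : M * h7_U2m = h7_U2m * M) :
    M 0 1 = 0 ∧ M 2 1 = 0 ∧ M 2 0 = 0 ∧ M 1 1 = M 2 2 := by
  have e02 := congr_fun (congr_fun h 0) 2
  have e12 := congr_fun (congr_fun h 1) 2
  have e22 := congr_fun (congr_fun h 2) 2
  have e10 := congr_fun (congr_fun h 1) 0
  simp [Matrix.mul_apply, Fin.sum_univ_three, h7_U2m] at e02 e12 e22 e10
  exact ⟨e02, e22, e10, by linear_combination e12⟩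

theorem h7_sq_zero : ∀ c : ZMod 3,
    ((!![1,0,c;0,1,0;0,0,1] : h7_Mat) - 1) * ((!![1,0,c;0,1,0;0,0,1] : h7_Mat) - 1) = 0 := by
  decide

theorem h7_cube : ∀ a : ZMod 3, a * a * a = 1 → a = 1 := by decide

/-- an element of `SL₃(3)` commuting with `1 + E₀₁` and `1 + E₁₂` is `1 + c E₀₂`: it is `1` or a
transvection. -/
theorem h7_comm_both (g : S33) (h1 : g * h7_u1 = h7_u1 * g) (h2 : g * h7_u2 = h7_u2 * g) :
    g = 1 ∨ g ∈ TS := by
  have h1' : g.1 * h7_U1m = h7_U1m * g.1 := by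
    have := congrArg Subtype.val h1
    rw [Matrix.SpecialLinearGroup.coe_mul, Matrix.SpecialLinearGroup.coe_mul] at this
    exact this
  have h2' : g.1 * h7_U2m = h7_U2m * g.1 := by
    have := congrArg Subtype.val h2
    rw [Matrix.SpecialLinearGroup.coe_mul, Matrix.SpecialLinearGroup.coe_mul] at this
    exact this
  obtain ⟨a10, a20, a12, a00⟩ := h7_comm_U1m g.1 h1'
  obtain ⟨a01, a21, -, a11⟩ := h7_comm_U2m g.1 h2'
  have hM : g.1 = !![g.1 0 0, 0, g.1 0 2; 0, g.1 0 0, 0; 0, 0, g.1 0 0] := by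
    conv_lhs => rw [Matrix.eta_fin_three g.1]
    rw [a10, a20, a12, a01, a21, ← a11, ← a00]
  have hdet : g.1 0 0 * g.1 0 0 * g.1 0 0 = 1 := by
    have := g.2
    rw [Matrix.det_fin_three, a10, a20, a12, a01, a21, ← a11, ← a00] at this
    linear_combination this
  have ha : g.1 0 0 = 1 := h7_cube _ hdet
  rw [ha] at hM
  by_cases hc : g.1 0 2 = 0
  · left
    apply Subtype.ext
    rw [hM, hc]
    show (!![1,0,0;0,1,0;0,0,1] : h7_Mat) = 1
    decide
  · right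
    refine ⟨?_, ?_⟩
    · intro h
      apply hc
      rw [h]
      simp
    · unfold nil
      rw [hM]
      exact h7_sq_zero _

/-- `TS` is invariant under conjugation. -/
theorem h7_TS_conj (c g : S33) (hg : g ∈ TS) : c * g * c⁻¹ ∈ TS := by
  obtain ⟨hne, hsq⟩ := hg
  have hc : c.1 * (c⁻¹).1 = 1 := by
    rw [← Matrix.SpecialLinearGroup.coe_mul, mul_inv_cancel]; rfl
  have hc' : (c⁻¹).1 * c.1 = 1 := by
    rw [← Matrix.SpecialLinearGroup.coe_mul, inv_mul_cancel]; rfl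
  refine ⟨?_, ?_⟩
  · intro h
    apply hne
    have : g = c⁻¹ * (c * g * c⁻¹) * c := by group
    rw [this, h]; group
  · have hn : nil (c * g * c⁻¹) = c.1 * nil g * (c⁻¹).1 := by
      unfold nil
      simp only [Matrix.SpecialLinearGroup.coe_mul]
      rw [mul_sub, sub_mul, mul_one, hc]
    rw [hn]
    calc c.1 * nil g * (c⁻¹).1 * (c.1 * nil g * (c⁻¹).1)
        = c.1 * nil g * ((c⁻¹).1 * c.1) * nil g * (c⁻¹).1 := by simp only [mul_assoc]
      _ = c.1 * (nil g * nil g) * (c⁻¹).1 := by rw [hc', mul_one]; simp only [mul_assoc]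
      _ = 0 := by rw [hsq]; simp

theorem h7_u1_mem : h7_u1 ∈ h3_U := by
  rw [h3_mem_U]
  decide

theorem h7_u2_mem : h7_u2 ∈ h3_U := by
  rw [h3_mem_U]
  decide

/-- G2, the (⇐) half. -/
theorem h7_mem_TS_of_card (g : S33) (hne : g ≠ 1)
    (hcard : Nat.card (Subgroup.centralizer ({g} : Set S33)) = 54) : g ∈ TS := by
  obtain ⟨c, hc⟩ := h3_conj_into_centralizer card_S33 g hcard h3_U h3_card_U
  have h1 := hc h7_u1 h7_u1_mem
  have h2 := hc h7_u2 h7_u2_mem
  rcases h7_comm_both (c * g * c⁻¹) h1 h2 with h | h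
  · exfalso
    apply hne
    have : g = c⁻¹ * (c * g * c⁻¹) * c := by group
    rw [this, h]; group
  · have := h7_TS_conj c⁻¹ (c * g * c⁻¹) h
    have h3 : c⁻¹ * (c * g * c⁻¹) * c⁻¹⁻¹ = g := by group
    rwa [h3] at this

end Cfsg.Agent.L33C
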