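import Mathlib
import Cfsg.Agent.L33C.Base
import Cfsg.Agent.L33C.SLDefs
import Cfsg.Agent.L33C.H1_Tv

/-!
# S3412, piece G2 (⇒) (helper8): the centralizer of a transvection of `SL₃(3)` has order 54

Every `g ∈ TS` is `1 + s • v_p φ_lᵀ` (`h1_TS_form`, helper1) and is conjugate to `u = 1 + E₁₃` by an
explicit conjugator (table `h8_tab`, one `decide`); `C(u) = {[[a,b,c],[0,1,f],[0,0,a]]}` has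
`2 · 27 = 54` elements.
-/

set_option autoImplicit false
set_option linter.style.haveILetI false
set_option maxRecDepth 100000

namespace Cfsg.Agent.L33C

open Matrix

/-- the matrix `1 + E₁₃` -/
def h8_U : Matrix (Fin 3) (Fin 3) (ZMod 3) := !![1,0,1;0,1,0;0,0,1]

/-- the determinant of a `3 × 3` matrix, explicitly -/
def h8_det3 (M : Matrix (Fin 3) (Fin 3) (ZMod 3)) : ZMod 3 :=
  M 0 0 * M 1 1 * M 2 2 - M 0 0 * M 1 2 * M 2 1 - M 0 1 * M 1 0 * M 2 2 + M 0 1 * M 1 2 * M 2 0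
    + M 0 2 * M 1 0 * M 2 1 - M 0 2 * M 1 1 * M 2 0

theorem h8_det3_eq (M : Matrix (Fin 3) (Fin 3) (ZMod 3)) : M.det = h8_det3 M :=
  Matrix.det_fin_three M

theorem h8_det_U : h8_U.det = 1 := by
  rw [h8_det3_eq]
  decide

/-- the transvection `u = 1 + E₁₃` of `SL₃(3)` -/
def h8_u : S33 := ⟨h8_U, h8_det_U⟩

/-- the conjugator table: `h8_tab p l s * (1 + s • v_p φ_lᵀ) = (1 + E₁₃) * h8_tab p l s` -/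
def h8_tab0 : Fin 13 → Fin 13 → Fin 3 → Matrix (Fin 3) (Fin 3) (ZMod 3) :=
  ![
  ![ ![ !![1,0,0;0,1,0;0,0,1], !![1,0,0;0,1,0;0,0,1], !![1,0,0;0,1,0;0,0,1] ],
     ![ !![1,0,0;0,1,0;0,0,1], !![1,0,0;0,1,0;0,0,1], !![1,0,0;0,1,0;0,0,1] ],
     ![ !![1,0,0;0,1,0;0,0,1], !![1,0,0;0,1,0;0,0,1], !![1,0,0;0,1,0;0,0,1] ],
     ![ !![1,0,0;0,1,0;0,0,1], !![1,0,0;0,1,0;0,0,1], !![1,0,0;0,1,0;0,0,1] ],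
     ![ !![1,0,0;0,1,0;0,0,1], !![1,0,0;0,1,0;0,0,1], !![1,0,0;0,1,0;0,0,1] ],
     ![ !![1,0,0;0,1,0;0,0,1], !![1,0,0;0,1,0;0,0,1], !![1,0,0;0,1,0;0,0,1] ],
     ![ !![1,0,0;0,1,0;0,0,1], !![1,0,0;0,1,0;0,0,1], !![1,0,0;0,1,0;0,0,1] ],
     ![ !![1,0,0;0,1,0;0,0,1], !![1,0,0;0,1,0;0,0,1], !![1,0,0;0,1,0;0,0,1] ],
     ![ !![1,0,0;0,1,0;0,0,1], !![1,0,0;0,1,0;0,0,1], !![1,0,0;0,1,0;0,0,1] ],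
     ![ !![1,0,0;0,1,0;0,0,1], !![1,0,0;0,0,2;0,1,0], !![1,0,0;0,0,1;0,2,0] ],
     ![ !![1,0,0;0,1,0;0,0,1], !![1,0,0;0,0,2;0,1,1], !![1,0,0;0,0,1;0,2,2] ],
     ![ !![1,0,0;0,1,0;0,0,1], !![1,0,0;0,0,2;0,1,2], !![1,0,0;0,0,1;0,2,1] ],
     ![ !![1,0,0;0,1,0;0,0,1], !![1,0,0;0,1,0;0,0,1], !![1,0,0;0,2,0;0,0,2] ] ],
  ![ ![ !![1,0,0;0,1,0;0,0,1], !![1,0,0;0,1,0;0,0,1], !![1,0,0;0,1,0;0,0,1] ],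
     ![ !![1,0,0;0,1,0;0,0,1], !![1,0,0;0,1,0;0,0,1], !![1,0,0;0,1,0;0,0,1] ],
     ![ !![1,0,0;0,1,0;0,0,1], !![0,0,1;0,2,0;1,0,2], !![0,0,1;0,1,0;2,0,1] ],
     ![ !![1,0,0;0,1,0;0,0,1], !![1,0,0;0,1,0;0,0,1], !![1,0,0;0,1,0;0,0,1] ],
     ![ !![1,0,0;0,1,0;0,0,1], !![1,0,0;0,1,0;0,0,1], !![1,0,0;0,1,0;0,0,1] ],
     ![ !![1,0,0;0,1,0;0,0,1], !![0,0,1;0,2,0;1,1,2], !![0,0,1;0,1,0;2,2,1] ],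
     ![ !![1,0,0;0,1,0;0,0,1], !![1,0,0;0,1,0;0,0,1], !![1,0,0;0,1,0;0,0,1] ],
     ![ !![1,0,0;0,1,0;0,0,1], !![1,0,0;0,1,0;0,0,1], !![1,0,0;0,1,0;0,0,1] ],
     ![ !![1,0,0;0,1,0;0,0,1], !![0,0,1;0,2,0;1,2,2], !![0,0,1;0,1,0;2,1,1] ],
     ![ !![1,0,0;0,1,0;0,0,1], !![0,0,1;1,0,2;0,1,0], !![0,0,1;2,0,1;0,2,0] ],
     ![ !![1,0,0;0,1,0;0,0,1], !![1,0,0;0,1,0;0,0,1], !![1,0,0;0,1,0;0,0,1] ],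
     ![ !![1,0,0;0,1,0;0,0,1], !![1,0,0;0,1,0;0,0,1], !![1,0,0;0,1,0;0,0,1] ],
     ![ !![1,0,0;0,1,0;0,0,1], !![1,0,0;0,1,0;0,0,1], !![1,0,0;0,1,0;0,0,1] ] ],
  ![ ![ !![1,0,0;0,1,0;0,0,1], !![1,0,0;0,1,0;0,0,1], !![1,0,0;0,1,0;0,0,1] ],
     ![ !![1,0,0;0,1,0;0,0,1], !![0,0,1;0,1,0;2,0,2], !![0,0,1;0,2,0;1,0,1] ],
     ![ !![1,0,0;0,1,0;0,0,1], !![1,0,0;0,1,0;0,0,1], !![1,0,0;0,1,0;0,0,1] ],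
     ![ !![1,0,0;0,1,0;0,0,1], !![1,0,0;0,1,0;0,0,1], !![1,0,0;0,1,0;0,0,1] ],
     ![ !![1,0,0;0,1,0;0,0,1], !![0,0,1;0,1,0;2,2,2], !![0,0,1;0,2,0;1,1,1] ],
     ![ !![1,0,0;0,1,0;0,0,1], !![1,0,0;0,1,0;0,0,1], !![1,0,0;0,1,0;0,0,1] ],
     ![ !![1,0,0;0,1,0;0,0,1], !![1,0,0;0,1,0;0,0,1], !![1,0,0;0,1,0;0,0,1] ],
     ![ !![1,0,0;0,1,0;0,0,1], !![0,0,1;0,1,0;2,1,2], !![0,0,1;0,2,0;1,2,1] ],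
     ![ !![1,0,0;0,1,0;0,0,1], !![1,0,0;0,1,0;0,0,1], !![1,0,0;0,1,0;0,0,1] ],
     ![ !![1,0,0;0,1,0;0,0,1], !![0,0,1;2,0,2;0,2,0], !![0,0,1;1,0,1;0,1,0] ],
     ![ !![1,0,0;0,1,0;0,0,1], !![1,0,0;0,1,0;0,0,1], !![1,0,0;0,1,0;0,0,1] ],
     ![ !![1,0,0;0,1,0;0,0,1], !![1,0,0;0,1,0;0,0,1], !![1,0,0;0,1,0;0,0,1] ],
     ![ !![1,0,0;0,1,0;0,0,1], !![1,0,0;0,1,0;0,0,1], !![1,0,0;0,1,0;0,0,1] ] ],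
  ![ ![ !![1,0,0;0,1,0;0,0,1], !![1,0,0;0,1,0;0,0,1], !![1,0,0;0,1,0;0,0,1] ],
     ![ !![1,0,0;0,1,0;0,0,1], !![1,0,0;0,1,0;0,0,1], !![1,0,0;0,1,0;0,0,1] ],
     ![ !![1,0,0;0,1,0;0,0,1], !![1,0,0;0,1,0;0,0,1], !![1,0,0;0,1,0;0,0,1] ],
     ![ !![1,0,0;0,1,0;0,0,1], !![1,0,0;0,1,0;0,0,1], !![1,0,0;0,1,0;0,0,1] ],
     ![ !![1,0,0;0,1,0;0,0,1], !![1,0,0;0,1,0;0,0,1], !![1,0,0;0,1,0;0,0,1] ],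
     ![ !![1,0,0;0,1,0;0,0,1], !![1,0,0;0,1,0;0,0,1], !![1,0,0;0,1,0;0,0,1] ],
     ![ !![1,0,0;0,1,0;0,0,1], !![0,1,0;0,0,1;1,2,0], !![0,1,0;0,0,2;2,1,0] ],
     ![ !![1,0,0;0,1,0;0,0,1], !![0,1,0;0,0,1;1,2,1], !![0,1,0;0,0,2;2,1,2] ],
     ![ !![1,0,0;0,1,0;0,0,1], !![0,1,0;0,0,1;1,2,2], !![0,1,0;0,0,2;2,1,1] ],
     ![ !![1,0,0;0,1,0;0,0,1], !![1,0,0;0,1,0;0,0,1], !![1,0,0;0,1,0;0,0,1] ],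
     ![ !![1,0,0;0,1,0;0,0,1], !![1,0,0;0,1,0;0,0,1], !![1,0,0;0,1,0;0,0,1] ],
     ![ !![1,0,0;0,1,0;0,0,1], !![1,0,0;0,1,0;0,0,1], !![1,0,0;0,1,0;0,0,1] ],
     ![ !![1,0,0;0,1,0;0,0,1], !![0,1,0;2,1,0;0,0,1], !![0,1,0;1,2,0;0,0,2] ] ],
  ![ ![ !![1,0,0;0,1,0;0,0,1], !![1,0,0;0,1,0;0,0,1], !![1,0,0;0,1,0;0,0,1] ],
     ![ !![1,0,0;0,1,0;0,0,1], !![1,0,0;0,1,0;0,0,1], !![1,0,0;0,1,0;0,0,1] ],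
     ![ !![1,0,0;0,1,0;0,0,1], !![0,0,1;0,2,1;1,0,2], !![0,0,1;0,1,2;2,0,1] ],
     ![ !![1,0,0;0,1,0;0,0,1], !![1,0,0;0,1,0;0,0,1], !![1,0,0;0,1,0;0,0,1] ],
     ![ !![1,0,0;0,1,0;0,0,1], !![0,0,1;0,2,1;1,1,1], !![0,0,1;0,1,2;2,2,2] ],
     ![ !![1,0,0;0,1,0;0,0,1], !![1,0,0;0,1,0;0,0,1], !![1,0,0;0,1,0;0,0,1] ],
     ![ !![1,0,0;0,1,0;0,0,1], !![0,0,1;0,2,1;1,2,0], !![0,0,1;0,1,2;2,1,0] ],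
     ![ !![1,0,0;0,1,0;0,0,1], !![1,0,0;0,1,0;0,0,1], !![1,0,0;0,1,0;0,0,1] ],
     ![ !![1,0,0;0,1,0;0,0,1], !![1,0,0;0,1,0;0,0,1], !![1,0,0;0,1,0;0,0,1] ],
     ![ !![1,0,0;0,1,0;0,0,1], !![1,0,0;0,1,0;0,0,1], !![1,0,0;0,1,0;0,0,1] ],
     ![ !![1,0,0;0,1,0;0,0,1], !![1,0,0;0,1,0;0,0,1], !![1,0,0;0,1,0;0,0,1] ],
     ![ !![1,0,0;0,1,0;0,0,1], !![0,0,1;1,0,2;0,1,2], !![0,0,1;2,0,1;0,2,1] ],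
     ![ !![1,0,0;0,1,0;0,0,1], !![1,0,0;0,1,0;0,0,1], !![1,0,0;0,1,0;0,0,1] ] ],
  ![ ![ !![1,0,0;0,1,0;0,0,1], !![1,0,0;0,1,0;0,0,1], !![1,0,0;0,1,0;0,0,1] ],
     ![ !![1,0,0;0,1,0;0,0,1], !![0,0,1;0,1,1;2,0,2], !![0,0,1;0,2,2;1,0,1] ],
     ![ !![1,0,0;0,1,0;0,0,1], !![1,0,0;0,1,0;0,0,1], !![1,0,0;0,1,0;0,0,1] ],
     ![ !![1,0,0;0,1,0;0,0,1], !![1,0,0;0,1,0;0,0,1], !![1,0,0;0,1,0;0,0,1] ],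
     ![ !![1,0,0;0,1,0;0,0,1], !![1,0,0;0,1,0;0,0,1], !![1,0,0;0,1,0;0,0,1] ],
     ![ !![1,0,0;0,1,0;0,0,1], !![0,0,1;0,1,1;2,2,1], !![0,0,1;0,2,2;1,1,2] ],
     ![ !![1,0,0;0,1,0;0,0,1], !![0,0,1;0,1,1;2,1,0], !![0,0,1;0,2,2;1,2,0] ],
     ![ !![1,0,0;0,1,0;0,0,1], !![1,0,0;0,1,0;0,0,1], !![1,0,0;0,1,0;0,0,1] ],
     ![ !![1,0,0;0,1,0;0,0,1], !![1,0,0;0,1,0;0,0,1], !![1,0,0;0,1,0;0,0,1] ],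
     ![ !![1,0,0;0,1,0;0,0,1], !![1,0,0;0,1,0;0,0,1], !![1,0,0;0,1,0;0,0,1] ],
     ![ !![1,0,0;0,1,0;0,0,1], !![0,0,1;2,0,2;0,2,2], !![0,0,1;1,0,1;0,1,1] ],
     ![ !![1,0,0;0,1,0;0,0,1], !![1,0,0;0,1,0;0,0,1], !![1,0,0;0,1,0;0,0,1] ],
     ![ !![1,0,0;0,1,0;0,0,1], !![1,0,0;0,1,0;0,0,1], !![1,0,0;0,1,0;0,0,1] ] ],
  ![ ![ !![1,0,0;0,1,0;0,0,1], !![1,0,0;0,1,0;0,0,1], !![1,0,0;0,1,0;0,0,1] ],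
     ![ !![1,0,0;0,1,0;0,0,1], !![1,0,0;0,1,0;0,0,1], !![1,0,0;0,1,0;0,0,1] ],
     ![ !![1,0,0;0,1,0;0,0,1], !![1,0,0;0,1,0;0,0,1], !![1,0,0;0,1,0;0,0,1] ],
     ![ !![1,0,0;0,1,0;0,0,1], !![0,1,0;0,0,2;2,2,0], !![0,1,0;0,0,1;1,1,0] ],
     ![ !![1,0,0;0,1,0;0,0,1], !![0,1,0;0,0,2;2,2,2], !![0,1,0;0,0,1;1,1,1] ],
     ![ !![1,0,0;0,1,0;0,0,1], !![0,1,0;0,0,2;2,2,1], !![0,1,0;0,0,1;1,1,2] ],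
     ![ !![1,0,0;0,1,0;0,0,1], !![1,0,0;0,1,0;0,0,1], !![1,0,0;0,1,0;0,0,1] ],
     ![ !![1,0,0;0,1,0;0,0,1], !![1,0,0;0,1,0;0,0,1], !![1,0,0;0,1,0;0,0,1] ],
     ![ !![1,0,0;0,1,0;0,0,1], !![1,0,0;0,1,0;0,0,1], !![1,0,0;0,1,0;0,0,1] ],
     ![ !![1,0,0;0,1,0;0,0,1], !![1,0,0;0,1,0;0,0,1], !![1,0,0;0,1,0;0,0,1] ],
     ![ !![1,0,0;0,1,0;0,0,1], !![1,0,0;0,1,0;0,0,1], !![1,0,0;0,1,0;0,0,1] ],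
     ![ !![1,0,0;0,1,0;0,0,1], !![1,0,0;0,1,0;0,0,1], !![1,0,0;0,1,0;0,0,1] ],
     ![ !![1,0,0;0,1,0;0,0,1], !![0,1,0;1,1,0;0,0,2], !![0,1,0;2,2,0;0,0,1] ] ],
  ![ ![ !![1,0,0;0,1,0;0,0,1], !![1,0,0;0,1,0;0,0,1], !![1,0,0;0,1,0;0,0,1] ],
     ![ !![1,0,0;0,1,0;0,0,1], !![1,0,0;0,1,0;0,0,1], !![1,0,0;0,1,0;0,0,1] ],
     ![ !![1,0,0;0,1,0;0,0,1], !![0,0,1;0,2,2;1,0,2], !![0,0,1;0,1,1;2,0,1] ],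
     ![ !![1,0,0;0,1,0;0,0,1], !![0,0,1;0,2,2;1,1,0], !![0,0,1;0,1,1;2,2,0] ],
     ![ !![1,0,0;0,1,0;0,0,1], !![1,0,0;0,1,0;0,0,1], !![1,0,0;0,1,0;0,0,1] ],
     ![ !![1,0,0;0,1,0;0,0,1], !![1,0,0;0,1,0;0,0,1], !![1,0,0;0,1,0;0,0,1] ],
     ![ !![1,0,0;0,1,0;0,0,1], !![1,0,0;0,1,0;0,0,1], !![1,0,0;0,1,0;0,0,1] ],
     ![ !![1,0,0;0,1,0;0,0,1], !![0,0,1;0,2,2;1,2,1], !![0,0,1;0,1,1;2,1,2] ],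
     ![ !![1,0,0;0,1,0;0,0,1], !![1,0,0;0,1,0;0,0,1], !![1,0,0;0,1,0;0,0,1] ],
     ![ !![1,0,0;0,1,0;0,0,1], !![1,0,0;0,1,0;0,0,1], !![1,0,0;0,1,0;0,0,1] ],
     ![ !![1,0,0;0,1,0;0,0,1], !![0,0,1;1,0,2;0,1,1], !![0,0,1;2,0,1;0,2,2] ],
     ![ !![1,0,0;0,1,0;0,0,1], !![1,0,0;0,1,0;0,0,1], !![1,0,0;0,1,0;0,0,1] ],
     ![ !![1,0,0;0,1,0;0,0,1], !![1,0,0;0,1,0;0,0,1], !![1,0,0;0,1,0;0,0,1] ] ],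
  ![ ![ !![1,0,0;0,1,0;0,0,1], !![1,0,0;0,1,0;0,0,1], !![1,0,0;0,1,0;0,0,1] ],
     ![ !![1,0,0;0,1,0;0,0,1], !![0,0,1;0,1,2;2,0,2], !![0,0,1;0,2,1;1,0,1] ],
     ![ !![1,0,0;0,1,0;0,0,1], !![1,0,0;0,1,0;0,0,1], !![1,0,0;0,1,0;0,0,1] ],
     ![ !![1,0,0;0,1,0;0,0,1], !![0,0,1;0,1,2;2,2,0], !![0,0,1;0,2,1;1,1,0] ],
     ![ !![1,0,0;0,1,0;0,0,1], !![1,0,0;0,1,0;0,0,1], !![1,0,0;0,1,0;0,0,1] ],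
     ![ !![1,0,0;0,1,0;0,0,1], !![1,0,0;0,1,0;0,0,1], !![1,0,0;0,1,0;0,0,1] ],
     ![ !![1,0,0;0,1,0;0,0,1], !![1,0,0;0,1,0;0,0,1], !![1,0,0;0,1,0;0,0,1] ],
     ![ !![1,0,0;0,1,0;0,0,1], !![1,0,0;0,1,0;0,0,1], !![1,0,0;0,1,0;0,0,1] ],
     ![ !![1,0,0;0,1,0;0,0,1], !![0,0,1;0,1,2;2,1,1], !![0,0,1;0,2,1;1,2,2] ],
     ![ !![1,0,0;0,1,0;0,0,1], !![1,0,0;0,1,0;0,0,1], !![1,0,0;0,1,0;0,0,1] ],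
     ![ !![1,0,0;0,1,0;0,0,1], !![1,0,0;0,1,0;0,0,1], !![1,0,0;0,1,0;0,0,1] ],
     ![ !![1,0,0;0,1,0;0,0,1], !![0,0,1;2,0,2;0,2,1], !![0,0,1;1,0,1;0,1,2] ],
     ![ !![1,0,0;0,1,0;0,0,1], !![1,0,0;0,1,0;0,0,1], !![1,0,0;0,1,0;0,0,1] ] ],
  ![ ![ !![1,0,0;0,1,0;0,0,1], !![0,1,0;0,0,1;1,0,0], !![0,1,0;0,0,2;2,0,0] ],
     ![ !![1,0,0;0,1,0;0,0,1], !![0,1,0;0,0,1;1,0,1], !![0,1,0;0,0,2;2,0,2] ],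
     ![ !![1,0,0;0,1,0;0,0,1], !![0,1,0;0,0,1;1,0,2], !![0,1,0;0,0,2;2,0,1] ],
     ![ !![1,0,0;0,1,0;0,0,1], !![1,0,0;0,1,0;0,0,1], !![1,0,0;0,1,0;0,0,1] ],
     ![ !![1,0,0;0,1,0;0,0,1], !![1,0,0;0,1,0;0,0,1], !![1,0,0;0,1,0;0,0,1] ],
     ![ !![1,0,0;0,1,0;0,0,1], !![1,0,0;0,1,0;0,0,1], !![1,0,0;0,1,0;0,0,1] ],
     ![ !![1,0,0;0,1,0;0,0,1], !![1,0,0;0,1,0;0,0,1], !![1,0,0;0,1,0;0,0,1] ],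
     ![ !![1,0,0;0,1,0;0,0,1], !![1,0,0;0,1,0;0,0,1], !![1,0,0;0,1,0;0,0,1] ],
     ![ !![1,0,0;0,1,0;0,0,1], !![1,0,0;0,1,0;0,0,1], !![1,0,0;0,1,0;0,0,1] ],
     ![ !![1,0,0;0,1,0;0,0,1], !![1,0,0;0,1,0;0,0,1], !![1,0,0;0,1,0;0,0,1] ],
     ![ !![1,0,0;0,1,0;0,0,1], !![1,0,0;0,1,0;0,0,1], !![1,0,0;0,1,0;0,0,1] ],
     ![ !![1,0,0;0,1,0;0,0,1], !![1,0,0;0,1,0;0,0,1], !![1,0,0;0,1,0;0,0,1] ],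
     ![ !![1,0,0;0,1,0;0,0,1], !![0,1,0;2,0,0;0,0,1], !![0,1,0;1,0,0;0,0,2] ] ],
  ![ ![ !![1,0,0;0,1,0;0,0,1], !![0,0,1;0,2,1;1,0,0], !![0,0,1;0,1,2;2,0,0] ],
     ![ !![1,0,0;0,1,0;0,0,1], !![1,0,0;0,1,0;0,0,1], !![1,0,0;0,1,0;0,0,1] ],
     ![ !![1,0,0;0,1,0;0,0,1], !![1,0,0;0,1,0;0,0,1], !![1,0,0;0,1,0;0,0,1] ],
     ![ !![1,0,0;0,1,0;0,0,1], !![1,0,0;0,1,0;0,0,1], !![1,0,0;0,1,0;0,0,1] ],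
     ![ !![1,0,0;0,1,0;0,0,1], !![1,0,0;0,1,0;0,0,1], !![1,0,0;0,1,0;0,0,1] ],
     ![ !![1,0,0;0,1,0;0,0,1], !![0,0,1;0,2,1;1,1,2], !![0,0,1;0,1,2;2,2,1] ],
     ![ !![1,0,0;0,1,0;0,0,1], !![1,0,0;0,1,0;0,0,1], !![1,0,0;0,1,0;0,0,1] ],
     ![ !![1,0,0;0,1,0;0,0,1], !![0,0,1;0,2,1;1,2,1], !![0,0,1;0,1,2;2,1,2] ],
     ![ !![1,0,0;0,1,0;0,0,1], !![1,0,0;0,1,0;0,0,1], !![1,0,0;0,1,0;0,0,1] ],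
     ![ !![1,0,0;0,1,0;0,0,1], !![1,0,0;0,1,0;0,0,1], !![1,0,0;0,1,0;0,0,1] ],
     ![ !![1,0,0;0,1,0;0,0,1], !![1,0,0;0,1,0;0,0,1], !![1,0,0;0,1,0;0,0,1] ],
     ![ !![1,0,0;0,1,0;0,0,1], !![0,0,1;1,0,0;0,1,2], !![0,0,1;2,0,0;0,2,1] ],
     ![ !![1,0,0;0,1,0;0,0,1], !![1,0,0;0,1,0;0,0,1], !![1,0,0;0,1,0;0,0,1] ] ],
  ![ ![ !![1,0,0;0,1,0;0,0,1], !![0,0,1;0,1,1;2,0,0], !![0,0,1;0,2,2;1,0,0] ],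
     ![ !![1,0,0;0,1,0;0,0,1], !![1,0,0;0,1,0;0,0,1], !![1,0,0;0,1,0;0,0,1] ],
     ![ !![1,0,0;0,1,0;0,0,1], !![1,0,0;0,1,0;0,0,1], !![1,0,0;0,1,0;0,0,1] ],
     ![ !![1,0,0;0,1,0;0,0,1], !![1,0,0;0,1,0;0,0,1], !![1,0,0;0,1,0;0,0,1] ],
     ![ !![1,0,0;0,1,0;0,0,1], !![0,0,1;0,1,1;2,2,2], !![0,0,1;0,2,2;1,1,1] ],
     ![ !![1,0,0;0,1,0;0,0,1], !![1,0,0;0,1,0;0,0,1], !![1,0,0;0,1,0;0,0,1] ],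
     ![ !![1,0,0;0,1,0;0,0,1], !![1,0,0;0,1,0;0,0,1], !![1,0,0;0,1,0;0,0,1] ],
     ![ !![1,0,0;0,1,0;0,0,1], !![1,0,0;0,1,0;0,0,1], !![1,0,0;0,1,0;0,0,1] ],
     ![ !![1,0,0;0,1,0;0,0,1], !![0,0,1;0,1,1;2,1,1], !![0,0,1;0,2,2;1,2,2] ],
     ![ !![1,0,0;0,1,0;0,0,1], !![1,0,0;0,1,0;0,0,1], !![1,0,0;0,1,0;0,0,1] ],
     ![ !![1,0,0;0,1,0;0,0,1], !![0,0,1;2,0,0;0,2,2], !![0,0,1;1,0,0;0,1,1] ],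
     ![ !![1,0,0;0,1,0;0,0,1], !![1,0,0;0,1,0;0,0,1], !![1,0,0;0,1,0;0,0,1] ],
     ![ !![1,0,0;0,1,0;0,0,1], !![1,0,0;0,1,0;0,0,1], !![1,0,0;0,1,0;0,0,1] ] ],
  ![ ![ !![1,0,0;0,1,0;0,0,1], !![0,0,1;0,2,0;1,0,0], !![0,0,1;0,1,0;2,0,0] ],
     ![ !![1,0,0;0,1,0;0,0,1], !![1,0,0;0,1,0;0,0,1], !![1,0,0;0,1,0;0,0,1] ],
     ![ !![1,0,0;0,1,0;0,0,1], !![1,0,0;0,1,0;0,0,1], !![1,0,0;0,1,0;0,0,1] ],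
     ![ !![1,0,0;0,1,0;0,0,1], !![0,0,1;0,2,0;1,1,0], !![0,0,1;0,1,0;2,2,0] ],
     ![ !![1,0,0;0,1,0;0,0,1], !![1,0,0;0,1,0;0,0,1], !![1,0,0;0,1,0;0,0,1] ],
     ![ !![1,0,0;0,1,0;0,0,1], !![1,0,0;0,1,0;0,0,1], !![1,0,0;0,1,0;0,0,1] ],
     ![ !![1,0,0;0,1,0;0,0,1], !![0,0,1;0,2,0;1,2,0], !![0,0,1;0,1,0;2,1,0] ],
     ![ !![1,0,0;0,1,0;0,0,1], !![1,0,0;0,1,0;0,0,1], !![1,0,0;0,1,0;0,0,1] ],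
     ![ !![1,0,0;0,1,0;0,0,1], !![1,0,0;0,1,0;0,0,1], !![1,0,0;0,1,0;0,0,1] ],
     ![ !![1,0,0;0,1,0;0,0,1], !![0,0,1;1,0,0;0,1,0], !![0,0,1;2,0,0;0,2,0] ],
     ![ !![1,0,0;0,1,0;0,0,1], !![1,0,0;0,1,0;0,0,1], !![1,0,0;0,1,0;0,0,1] ],
     ![ !![1,0,0;0,1,0;0,0,1], !![1,0,0;0,1,0;0,0,1], !![1,0,0;0,1,0;0,0,1] ],
     ![ !![1,0,0;0,1,0;0,0,1], !![1,0,0;0,1,0;0,0,1], !![1,0,0;0,1,0;0,0,1] ] ]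
  ]

/-- the conjugator table, indexed by the scalar `s : ZMod 3` -/
def h8_tab (p l : Fin 13) (s : ZMod 3) : Matrix (Fin 3) (Fin 3) (ZMod 3) := h8_tab0 p l s

set_option maxHeartbeats 4000000 in
theorem h8_tab_dec : ∀ p l : Fin 13, incS p l = true → ∀ s : ZMod 3, s ≠ 0 →
    (h8_det3 (h8_tab p l s) = 1 ∧
      h8_tab p l s * (1 + s • Matrix.vecMulVec (pt p) (pt l)) =
        h8_U * h8_tab p l s) := by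
  decide +kernel

/-- every transvection is conjugate to `u` -/
theorem h8_conj_u (g : S33) (hg : g ∈ TS) : ∃ c : S33, c * g * c⁻¹ = h8_u := by
  obtain ⟨hinc, s, hs, hform⟩ := h1_TS_form g hg
  obtain ⟨hdet, hmul⟩ := h8_tab_dec (cenS g) (axiS g) hinc s hs
  have hd : (h8_tab (cenS g) (axiS g) s).det = 1 := by rw [h8_det3_eq]; exact hdet
  let c : S33 := ⟨h8_tab (cenS g) (axiS g) s, hd⟩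
  have hcg : c * g = h8_u * c := by
    apply Subtype.ext
    show h8_tab (cenS g) (axiS g) s * g.1 = h8_U * h8_tab (cenS g) (axiS g) s
    rw [hform]
    exact hmul
  refine ⟨c, ?_⟩
  rw [hcg]
  group

/-- the sign `±1` -/
def h8_sgn (e : Bool) : ZMod 3 := if e then 1 else 2

theorem h8_sgn_sq (e : Bool) : h8_sgn e * h8_sgn e = 1 := by
  cases e <;> decide

/-- the matrix `[[a,b,c],[0,1,f],[0,0,a]]` -/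
def h8_cuM (b c f : ZMod 3) (e : Bool) : Matrix (Fin 3) (Fin 3) (ZMod 3) :=
  !![h8_sgn e, b, c; 0, 1, f; 0, 0, h8_sgn e]

theorem h8_det_cuM (b c f : ZMod 3) (e : Bool) : (h8_cuM b c f e).det = 1 := by
  rw [h8_det3_eq]
  simp [h8_det3, h8_cuM, h8_sgn_sq]

/-- the element `[[a,b,c],[0,1,f],[0,0,a]]` of `SL₃(3)` -/
def h8_cu (b c f : ZMod 3) (e : Bool) : S33 := ⟨h8_cuM b c f e, h8_det_cuM b c f e⟩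

theorem h8_cu_comm (b c f : ZMod 3) (e : Bool) : h8_u * h8_cu b c f e = h8_cu b c f e * h8_u := by
  apply Subtype.ext
  show h8_U * h8_cuM b c f e = h8_cuM b c f e * h8_U
  ext i j
  fin_cases i <;> fin_cases j <;>
    simp [h8_U, h8_cuM, Matrix.mul_apply, Fin.sum_univ_three, add_comm]

theorem h8_zmod3_aux : ∀ a e : ZMod 3, a * e * a = 1 → e = 1 ∧ (a = 1 ∨ a = 2) := by decide

/-- the shape of an element commuting with `u` -/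
theorem h8_shape (h : S33) (hc : h8_u * h = h * h8_u) :
    h.1 1 0 = 0 ∧ h.1 2 0 = 0 ∧ h.1 2 1 = 0 ∧ h.1 1 1 = 1 ∧ h.1 2 2 = h.1 0 0 ∧
      (h.1 0 0 = 1 ∨ h.1 0 0 = 2) := by
  have hM : h8_U * h.1 = h.1 * h8_U := congrArg Subtype.val hc
  have e12 := congrFun (congrFun hM 1) 2
  have e22 := congrFun (congrFun hM 2) 2
  have e01 := congrFun (congrFun hM 0) 1
  have e02 := congrFun (congrFun hM 0) 2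
  simp [h8_U, Matrix.mul_apply, Fin.sum_univ_three] at e12 e22 e01 e02
  have hdet := h.2
  rw [h8_det3_eq] at hdet
  unfold h8_det3 at hdet
  have h22 : h.1 2 2 = h.1 0 0 := by
    have := e02
    rw [add_comm (h.1 0 2) (h.1 2 2)] at this
    exact add_right_cancel this
  rw [e12, e22, e01, h22] at hdet
  simp only [mul_zero, zero_mul, sub_zero, add_zero] at hdet
  obtain ⟨h11, h00⟩ := h8_zmod3_aux _ _ hdet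
  exact ⟨e12, e22, e01, h11, h22, h00⟩

theorem h8_sgn_decide : ∀ a : ZMod 3, (a = 1 ∨ a = 2) → h8_sgn (decide (a = 1)) = a := by decide

/-- every element commuting with `u` is an `h8_cu` -/
theorem h8_eq_cu (h : S33) (hc : h8_u * h = h * h8_u) :
    h = h8_cu (h.1 0 1) (h.1 0 2) (h.1 1 2) (decide (h.1 0 0 = 1)) := by
  obtain ⟨e10, e20, e21, e11, e22, e00⟩ := h8_shape h hc
  apply Subtype.ext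
  show h.1 = h8_cuM (h.1 0 1) (h.1 0 2) (h.1 1 2) (decide (h.1 0 0 = 1))
  have hs := h8_sgn_decide (h.1 0 0) e00
  ext i j
  fin_cases i <;> fin_cases j <;> simp [h8_cuM, hs, e10, e20, e21, e11, e22]

/-- the centralizer of `u` is in bijection with `ZMod 3 × ZMod 3 × ZMod 3 × Bool` -/
noncomputable def h8_centEquiv :
    (ZMod 3 × ZMod 3 × ZMod 3 × Bool) ≃ Subgroup.centralizer ({h8_u} : Set S33) where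
  toFun x := ⟨h8_cu x.1 x.2.1 x.2.2.1 x.2.2.2, by
    rw [Subgroup.mem_centralizer_singleton_iff]
    exact (h8_cu_comm _ _ _ _).symm⟩
  invFun h := (h.1.1 0 1, h.1.1 0 2, h.1.1 1 2, decide (h.1.1 0 0 = 1))
  left_inv := by
    rintro ⟨b, c, f, e⟩
    have : h8_sgn e = 1 ↔ e = true := by cases e <;> decide
    simp [h8_cu, h8_cuM, this]
  right_inv := by
    rintro ⟨h, hh⟩
    rw [Subgroup.mem_centralizer_singleton_iff] at hh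
    apply Subtype.ext
    exact (h8_eq_cu h hh.symm).symm

theorem h8_card_centralizer_u : Nat.card (Subgroup.centralizer ({h8_u} : Set S33)) = 54 := by
  rw [← Nat.card_congr h8_centEquiv]
  simp

/-- conjugation preserves the order of the centralizer -/
theorem h8_card_cent_conj {K : Type*} [Group K] (c k : K) :
    Nat.card (Subgroup.centralizer ({c * k * c⁻¹} : Set K)) =
      Nat.card (Subgroup.centralizer ({k} : Set K)) := by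
  apply Nat.card_congr
  refine ⟨fun z => ⟨c⁻¹ * z * c, ?_⟩, fun z => ⟨c * z * c⁻¹, ?_⟩, ?_, ?_⟩
  · have hz := Subgroup.mem_centralizer_singleton_iff.mp z.2
    rw [Subgroup.mem_centralizer_singleton_iff]
    calc c⁻¹ * z * c * k = c⁻¹ * (z * (c * k * c⁻¹)) * c := by group
      _ = c⁻¹ * ((c * k * c⁻¹) * z) * c := by rw [hz]
      _ = k * (c⁻¹ * z * c) := by group
  · have hz := Subgroup.mem_centralizer_singleton_iff.mp z.2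
    rw [Subgroup.mem_centralizer_singleton_iff]
    calc c * z * c⁻¹ * (c * k * c⁻¹) = c * (z * k) * c⁻¹ := by group
      _ = c * (k * z) * c⁻¹ := by rw [hz]
      _ = c * k * c⁻¹ * (c * z * c⁻¹) := by group
  · intro z
    apply Subtype.ext
    show c * (c⁻¹ * z * c) * c⁻¹ = z
    group
  · intro z
    apply Subtype.ext
    show c⁻¹ * (c * z * c⁻¹) * c = z
    group

/-- **G2 (⇒).**  The centralizer of a transvection of `SL₃(3)` has order 54. -/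
theorem h8_card_centralizer_TS (g : S33) (hg : g ∈ TS) :
    Nat.card (Subgroup.centralizer ({g} : Set S33)) = 54 := by
  obtain ⟨c, hc⟩ := h8_conj_u g hg
  rw [← h8_card_cent_conj c g, hc]
  exact h8_card_centralizer_u

end Cfsg.Agent.L33C
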