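import Mathlib
import Cfsg.Agent.L33C.SLDefs
import Cfsg.Agent.L33C.H7_MemTSBack
import Cfsg.Agent.L33C.H8_Cent54

/-!
# S3412 / L33C, piece G2 (helper7): the transvections of `SL₃(3)` are the elements `g ≠ 1` with
`|C(g)| = 54`

(⇒) is helper8's `h8_card_centralizer_TS` (every transvection is conjugate to `1 + E₀₂`, whose
centralizer has order 54); (⇐) is `h7_mem_TS_of_card` (helper3's Sylow step + the unitriangular
group).
-/

set_option autoImplicit false

namespace Cfsg.Agent.L33C

/-- G2: `mem_T`. -/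
theorem mem_TS (g : S33) :
    g ∈ TS ↔ g ≠ 1 ∧ Nat.card (Subgroup.centralizer ({g} : Set S33)) = 54 :=
  ⟨fun hg => ⟨hg.1, h8_card_centralizer_TS g hg⟩, fun h => h7_mem_TS_of_card g h.1 h.2⟩

end Cfsg.Agent.L33C
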