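import Mathlib
import Cfsg.Agent.L33C.Base
import Cfsg.Agent.L33C.SLDefs
import Cfsg.Agent.L33C.H1_Tv
import Cfsg.Agent.L33C.H7_Card
import Cfsg.Agent.L33C.H7_MemTS
import Cfsg.Agent.L33C.H2_Cent
import Cfsg.Agent.L33C.H4_Dcent

/-!
# S3412, G-side, G5 (helper1): the `CommPlane` structure of `SL₃(3)`.
-/

set_option autoImplicit false

namespace Cfsg.Agent.L33C

/-- G5: assembly of the structure. -/
theorem exists_commPlane_S33 : Nonempty (CommPlane S33) :=
  ⟨{ T := TS
     cen := cenS
     axi := axiS
     inc := incS
     card_G := card_S33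
     center_triv := center_triv_S33
     mem_T := mem_TS
     sq_ne := sq_ne_TS
     inc_T := inc_TS
     comm_T := comm_TS
     flag_T := flag_TS
     cent_P := cent_P_S33
     cent_L := cent_L_S33
     dcent_T := dcent_TS
     line_card := incS_line_card
     point_card := incS_point_card
     join := incS_join
     meet := incS_meet }⟩

end Cfsg.Agent.L33C
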