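import Mathlib
import Cfsg.Agent.L33C.Base

/-!
# S3412 (project L33C), pieces C1 and C3: transfer lemmas along an isomorphism of commuting graphs
(helper3)

* C1: `CommEquiv.card_eq`, `CommEquiv.card_centralizer`, `CommEquiv.center_triv`,
  `CommPlane.mem_T_iff`, `CommPlane.mem_T_conj`, `CommPlane.inv_mem`.
* C3: `inv_of_mem_T`: for `F y ∈ T`, `F y⁻¹ = (F y)⁻¹` and `y ^ 3 = 1` (double centralizers).
-/

set_option autoImplicit false

namespace Cfsg.Agent.L33C

variable {G H : Type*} [Group G] [Group H]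

/-! ## C1 -/

theorem CommEquiv.card_eq (F : CommEquiv H G) : Nat.card H = Nat.card G :=
  Nat.card_congr F.toEquiv

/-- membership in a centralizer is transported by `F` -/
theorem CommEquiv.h3_mem_centralizer_iff (F : CommEquiv H G) (y z : H) :
    z ∈ Subgroup.centralizer ({y} : Set H) ↔ F z ∈ Subgroup.centralizer ({F y} : Set G) := by
  rw [Subgroup.mem_centralizer_singleton_iff, Subgroup.mem_centralizer_singleton_iff]
  exact F.comm_iff z y

/-- `z ↦ F z` is a bijection `C_H(y) ≃ C_G(F y)`. -/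
theorem CommEquiv.card_centralizer (F : CommEquiv H G) (y : H) :
    Nat.card (Subgroup.centralizer ({y} : Set H)) =
      Nat.card (Subgroup.centralizer ({F y} : Set G)) :=
  Nat.card_congr (Equiv.subtypeEquiv F.toEquiv (fun z => F.h3_mem_centralizer_iff y z))

theorem CommEquiv.center_triv (F : CommEquiv H G)
    (hG : ∀ z : G, (∀ g : G, z * g = g * z) → z = 1) :
    ∀ z : H, (∀ h : H, z * h = h * z) → z = 1 := by
  intro z hz
  apply F.eq_one_iff.mp
  apply hG
  intro g
  have h1 := (F.comm_iff z (F.symm g)).mp (hz (F.symm g))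
  rwa [F.apply_symm_apply] at h1

/-- graph automorphisms preserve `T` (`mem_T` + `card_centralizer`). -/
theorem CommPlane.mem_T_iff (D : CommPlane G) (γ : CommEquiv G G) (g : G) :
    γ g ∈ D.T ↔ g ∈ D.T := by
  rw [D.mem_T, D.mem_T, ← γ.card_centralizer g, Ne, Ne, γ.eq_one_iff]

theorem CommPlane.mem_T_conj (D : CommPlane G) (F : CommEquiv H G) (h y : H) :
    F (h * y * h⁻¹) ∈ D.T ↔ F y ∈ D.T := by
  rw [← F.conjTwist_apply h y]
  exact D.mem_T_iff (F.conjTwist h) (F y)

/-- `x⁻¹` commutes with the whole centre-fibre and the whole axis-fibre of `x`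
(`comm_T`, then `cent_P`, `cent_L`, `mem_T`). -/
theorem CommPlane.inv_mem (D : CommPlane G) (x : G) (hx : x ∈ D.T) :
    x⁻¹ ∈ D.T ∧ D.cen x⁻¹ = D.cen x ∧ D.axi x⁻¹ = D.axi x := by
  have hx1 : x ≠ 1 := ((D.mem_T x).mp hx).1
  have hinv1 : x⁻¹ ≠ 1 := fun h => hx1 (inv_eq_one.mp h)
  have hcomm : ∀ y : G, x * y = y * x → x⁻¹ * y = y * x⁻¹ := by
    intro y hy
    calc x⁻¹ * y = x⁻¹ * (y * x) * x⁻¹ := by group
      _ = x⁻¹ * (x * y) * x⁻¹ := by rw [hy]
      _ = y * x⁻¹ := by group
  have hP := D.cent_P (D.cen x) x⁻¹ (fun y hy hc =>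
    hcomm y ((D.comm_T x hx y hy).mpr (Or.inl hc.symm)))
  have hL := D.cent_L (D.axi x) x⁻¹ (fun y hy hc =>
    hcomm y ((D.comm_T x hx y hy).mpr (Or.inr hc.symm)))
  rcases hP with h | ⟨h1, h2⟩
  · exact absurd h hinv1
  · rcases hL with h | ⟨_, h3⟩
    · exact absurd h hinv1
    · exact ⟨h1, h2, h3⟩

/-! ## C3 -/

/-- the double centralizer of `y` is mapped by `F` into the double centralizer of `F y` -/
theorem CommEquiv.h3_dcent (F : CommEquiv H G) (y z : H)
    (hz : ∀ g : H, g * y = y * g → z * g = g * z) :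
    ∀ g : G, g * F y = F y * g → F z * g = g * F z := by
  intro g hg
  have h1 : F.symm g * y = y * F.symm g := by
    rw [F.comm_iff, F.apply_symm_apply]
    exact hg
  have h2 := (F.comm_iff z (F.symm g)).mp (hz _ h1)
  rwa [F.apply_symm_apply] at h2

/-- `Z := C_H(C_H(y))` is a subgroup containing `y`, and `F` maps it onto
`C_G(C_G(F y)) = {1, x, x⁻¹}` (`dcent_T`, `sq_ne`): `|Z| = 3`. -/
theorem inv_of_mem_T (D : CommPlane G) (F : CommEquiv H G) [Finite H] (y : H) (hy : F y ∈ D.T) :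
    F y⁻¹ = (F y)⁻¹ ∧ y ^ 3 = 1 := by
  set x := F y with hx
  have hx1 : x ≠ 1 := ((D.mem_T x).mp hy).1
  have hy1 : y ≠ 1 := fun h => hx1 (F.eq_one_iff.mpr h)
  have hxx : x * x ≠ 1 := D.sq_ne x hy
  have hxinv : x⁻¹ ≠ x := by
    intro h
    apply hxx
    calc x * x = x * x⁻¹ := by rw [h]
      _ = 1 := mul_inv_cancel x
  have hxinv1 : x⁻¹ ≠ 1 := fun h => hx1 (inv_eq_one.mp h)
  -- the double centralizer `Z` of `y`
  set Z : Subgroup H := Subgroup.centralizer (Subgroup.centralizer ({y} : Set H) : Set H) with hZ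
  have hmemZ : ∀ z : H, z ∈ Z ↔ ∀ g : H, g * y = y * g → z * g = g * z := by
    intro z
    rw [hZ, Subgroup.mem_centralizer_iff]
    constructor
    · intro h g hg
      exact (h g (Subgroup.mem_centralizer_singleton_iff.mpr hg)).symm
    · intro h g hg
      exact (h g (Subgroup.mem_centralizer_singleton_iff.mp hg)).symm
  have hyZ : y ∈ Z := by
    rw [hmemZ]
    intro g hg
    exact hg.symm
  -- the image of `Z`
  have himg : ∀ z ∈ Z, F z = 1 ∨ F z = x ∨ F z = x⁻¹ := by
    intro z hz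
    exact D.dcent_T x hy (F z) (F.h3_dcent y z ((hmemZ z).mp hz))
  -- the preimage of `x⁻¹` lies in `Z`
  set w : H := F.symm x⁻¹ with hw
  have hFw : F w = x⁻¹ := F.apply_symm_apply _
  have hwZ : w ∈ Z := by
    rw [hmemZ]
    have h1 : ∀ g : G, g * x = x * g → x⁻¹ * g = g * x⁻¹ := by
      intro g hg
      calc x⁻¹ * g = x⁻¹ * (g * x) * x⁻¹ := by group
        _ = x⁻¹ * (x * g) * x⁻¹ := by rw [hg]
        _ = g * x⁻¹ := by group
    intro g hg
    rw [F.comm_iff, hFw]
    exact h1 (F g) ((F.comm_iff g y).mp hg)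
  -- `F y⁻¹ = x⁻¹`
  have hinv : F y⁻¹ = x⁻¹ := by
    rcases himg y⁻¹ (Z.inv_mem hyZ) with h | h | h
    · exact absurd (inv_eq_one.mp (F.eq_one_iff.mp h)) hy1
    · -- `y⁻¹ = y`: then `w * y` gives a contradiction
      exfalso
      have hyy : y⁻¹ = y := F.injective h
      rcases himg (w * y) (Z.mul_mem hwZ hyZ) with h2 | h2 | h2
      · have h3 : w * y = 1 := F.eq_one_iff.mp h2
        have h4 : w = y := by rw [← hyy]; exact eq_inv_of_mul_eq_one_left h3
        apply hxinv
        rw [← hFw, h4]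
      · have h3 : w * y = y := F.injective h2
        have h4 : w = 1 := by
          have := congrArg (· * y⁻¹) h3
          simpa using this
        apply hxinv1
        rw [← hFw, h4, F.map_one]
      · have h3 : w * y = w := F.injective (h2.trans hFw.symm)
        apply hy1
        have := congrArg (w⁻¹ * ·) h3
        simpa using this
    · exact h
  refine ⟨hinv, ?_⟩
  rcases himg (y * y) (Z.mul_mem hyZ hyZ) with h | h | h
  · exfalso
    have h3 : y * y = 1 := F.eq_one_iff.mp h
    have h4 : y⁻¹ = y := inv_eq_of_mul_eq_one_left h3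
    apply hxinv
    rw [← hinv, h4]
  · exfalso
    have h3 : y * y = y := F.injective h
    apply hy1
    have := congrArg (y⁻¹ * ·) h3
    simpa using this
  · have h3 : y * y = y⁻¹ := F.injective (h.trans hinv.symm)
    rw [pow_succ, pow_two, h3, inv_mul_cancel]

end Cfsg.Agent.L33C
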