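import Mathlib
import Cfsg.Agent.L33C.Base
import Cfsg.Agent.L33C.H3_Transfer

/-!
# S3412 (project L33C), piece C5: the type-preserving subgroup and its action on the 13 points
(helper3)

`h3_exists_action`: the statement of `exists_action` with the three black boxes (`dichotomy`,
`not_both`, `kernel_trivial`) as hypotheses.
-/

set_option autoImplicit false

namespace Cfsg.Agent.L33C

variable {G H : Type*} [Group G] [Group H]

/-- the graph automorphism maps centres to centres and axes to axes -/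
def h3_Type1 (D : CommPlane G) (γ : CommEquiv G G) : Prop :=
  ∃ σ ρ : Fin 13 → Fin 13, ∀ x ∈ D.T,
    D.cen (γ x) = σ (D.cen x) ∧ D.axi (γ x) = ρ (D.axi x)

/-- the graph automorphism exchanges centres and axes -/
def h3_Type2 (D : CommPlane G) (γ : CommEquiv G G) : Prop :=
  ∃ σ ρ : Fin 13 → Fin 13, ∀ x ∈ D.T,
    D.axi (γ x) = σ (D.cen x) ∧ D.cen (γ x) = ρ (D.axi x)

/-! ### the plane -/

theorem h3_exists_flag (D : CommPlane G) (p l : Fin 13) (h : D.inc p l = true) :
    ∃ x ∈ D.T, D.cen x = p ∧ D.axi x = l := by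
  obtain ⟨x, hx, h1, h2, -⟩ := D.flag_T p l h
  exact ⟨x, hx, h1, h2⟩

theorem h3_exists_line (D : CommPlane G) (p : Fin 13) : ∃ l, D.inc p l = true := by
  have h := D.point_card p
  have hne : (Finset.univ.filter (fun l => D.inc p l = true)).Nonempty := by
    rw [← Finset.card_pos, h]; norm_num
  obtain ⟨l, hl⟩ := hne
  exact ⟨l, (Finset.mem_filter.mp hl).2⟩

theorem h3_exists_two_points (D : CommPlane G) (l : Fin 13) :
    ∃ p q, p ≠ q ∧ D.inc p l = true ∧ D.inc q l = true := by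
  have h := D.line_card l
  have h1 : 1 < (Finset.univ.filter (fun p => D.inc p l = true)).card := by rw [h]; norm_num
  obtain ⟨p, hp, q, hq, hpq⟩ := Finset.one_lt_card.mp h1
  exact ⟨p, q, hpq, (Finset.mem_filter.mp hp).2, (Finset.mem_filter.mp hq).2⟩

theorem h3_exists_cen (D : CommPlane G) (p : Fin 13) : ∃ x ∈ D.T, D.cen x = p := by
  obtain ⟨l, hl⟩ := h3_exists_line D p
  obtain ⟨x, hx, h1, -⟩ := h3_exists_flag D p l hl
  exact ⟨x, hx, h1⟩

theorem h3_exists_axi (D : CommPlane G) (l : Fin 13) : ∃ x ∈ D.T, D.axi x = l := by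
  obtain ⟨p, -, -, hp, -⟩ := h3_exists_two_points D l
  obtain ⟨x, hx, -, h2⟩ := h3_exists_flag D p l hp
  exact ⟨x, hx, h2⟩

/-- a chosen transvection with centre `p` -/
noncomputable def h3_xP (D : CommPlane G) (p : Fin 13) : G := Classical.choose (h3_exists_cen D p)

theorem h3_xP_mem (D : CommPlane G) (p : Fin 13) : h3_xP D p ∈ D.T :=
  (Classical.choose_spec (h3_exists_cen D p)).1

theorem h3_xP_cen (D : CommPlane G) (p : Fin 13) : D.cen (h3_xP D p) = p :=
  (Classical.choose_spec (h3_exists_cen D p)).2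

/-- a chosen transvection with axis `l` -/
noncomputable def h3_xL (D : CommPlane G) (l : Fin 13) : G := Classical.choose (h3_exists_axi D l)

theorem h3_xL_mem (D : CommPlane G) (l : Fin 13) : h3_xL D l ∈ D.T :=
  (Classical.choose_spec (h3_exists_axi D l)).1

theorem h3_xL_axi (D : CommPlane G) (l : Fin 13) : D.axi (h3_xL D l) = l :=
  (Classical.choose_spec (h3_exists_axi D l)).2

/-! ### conjugation twisted to `G` -/

theorem h3_conjTwist_one (F : CommEquiv H G) (g : G) : F.conjTwist 1 g = g := by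
  obtain ⟨y, rfl⟩ := F.surjective g
  rw [F.conjTwist_apply]
  simp

theorem h3_conjTwist_mul (F : CommEquiv H G) (h k : H) (g : G) :
    F.conjTwist (h * k) g = F.conjTwist h (F.conjTwist k g) := by
  obtain ⟨y, rfl⟩ := F.surjective g
  rw [F.conjTwist_apply, F.conjTwist_apply, F.conjTwist_apply]
  congr 1
  group

/-- the action on the points -/
noncomputable def h3_sig (D : CommPlane G) (F : CommEquiv H G) (h : H) (p : Fin 13) : Fin 13 :=
  D.cen (F.conjTwist h (h3_xP D p))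

/-- the action on the lines -/
noncomputable def h3_rho (D : CommPlane G) (F : CommEquiv H G) (h : H) (l : Fin 13) : Fin 13 :=
  D.axi (F.conjTwist h (h3_xL D l))

theorem h3_type1_spec (D : CommPlane G) (F : CommEquiv H G) (h : H)
    (h1 : h3_Type1 D (F.conjTwist h)) :
    ∀ x ∈ D.T, D.cen (F.conjTwist h x) = h3_sig D F h (D.cen x) ∧
      D.axi (F.conjTwist h x) = h3_rho D F h (D.axi x) := by
  obtain ⟨σ, ρ, hσρ⟩ := h1
  intro x hx
  constructor
  · rw [(hσρ x hx).1]
    unfold h3_sig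
    rw [(hσρ _ (h3_xP_mem D _)).1, h3_xP_cen]
  · rw [(hσρ x hx).2]
    unfold h3_rho
    rw [(hσρ _ (h3_xL_mem D _)).2, h3_xL_axi]

theorem h3_type1_one (D : CommPlane G) (F : CommEquiv H G) : h3_Type1 D (F.conjTwist 1) :=
  ⟨id, id, fun x _ => by rw [h3_conjTwist_one]; exact ⟨rfl, rfl⟩⟩

theorem h3_mem_T_twist (D : CommPlane G) (F : CommEquiv H G) (h : H) (x : G) (hx : x ∈ D.T) :
    F.conjTwist h x ∈ D.T := (D.mem_T_iff (F.conjTwist h) x).mpr hx

theorem h3_type_11 (D : CommPlane G) (F : CommEquiv H G) (h k : H)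
    (hh : h3_Type1 D (F.conjTwist h)) (hk : h3_Type1 D (F.conjTwist k)) :
    h3_Type1 D (F.conjTwist (h * k)) := by
  obtain ⟨σ, ρ, h1⟩ := hh
  obtain ⟨σ', ρ', h2⟩ := hk
  refine ⟨σ ∘ σ', ρ ∘ ρ', fun x hx => ?_⟩
  rw [h3_conjTwist_mul]
  have h3 := h1 _ (h3_mem_T_twist D F k x hx)
  rw [(h2 x hx).1, (h2 x hx).2] at h3
  exact h3

theorem h3_type_12 (D : CommPlane G) (F : CommEquiv H G) (h k : H)
    (hh : h3_Type1 D (F.conjTwist h)) (hk : h3_Type2 D (F.conjTwist k)) :
    h3_Type2 D (F.conjTwist (h * k)) := by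
  obtain ⟨σ, ρ, h1⟩ := hh
  obtain ⟨σ', ρ', h2⟩ := hk
  refine ⟨ρ ∘ σ', σ ∘ ρ', fun x hx => ?_⟩
  rw [h3_conjTwist_mul]
  have h3 := h1 _ (h3_mem_T_twist D F k x hx)
  rw [(h2 x hx).1, (h2 x hx).2] at h3
  exact ⟨h3.2, h3.1⟩

theorem h3_type_22 (D : CommPlane G) (F : CommEquiv H G) (h k : H)
    (hh : h3_Type2 D (F.conjTwist h)) (hk : h3_Type2 D (F.conjTwist k)) :
    h3_Type1 D (F.conjTwist (h * k)) := by
  obtain ⟨σ, ρ, h1⟩ := hh
  obtain ⟨σ', ρ', h2⟩ := hk
  refine ⟨ρ ∘ σ', σ ∘ ρ', fun x hx => ?_⟩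
  rw [h3_conjTwist_mul]
  have h3 := h1 _ (h3_mem_T_twist D F k x hx)
  rw [(h2 x hx).1, (h2 x hx).2] at h3
  exact ⟨h3.2, h3.1⟩

/-! ### the subgroup `H0` -/

/-- the type-preserving subgroup -/
def h3_H0 (D : CommPlane G) (F : CommEquiv H G)
    (hdich : ∀ γ : CommEquiv G G, h3_Type1 D γ ∨ h3_Type2 D γ)
    (hnot : ∀ γ : CommEquiv G G, h3_Type1 D γ → h3_Type2 D γ → False) : Subgroup H where
  carrier := {h | h3_Type1 D (F.conjTwist h)}
  one_mem' := h3_type1_one D F
  mul_mem' := fun ha hb => h3_type_11 D F _ _ ha hb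
  inv_mem' := by
    intro h hh
    rcases hdich (F.conjTwist h⁻¹) with h1 | h2
    · exact h1
    · exfalso
      have h3 := h3_type_12 D F h h⁻¹ hh h2
      rw [mul_inv_cancel] at h3
      exact hnot _ (h3_type1_one D F) h3

theorem h3_mem_H0 (D : CommPlane G) (F : CommEquiv H G)
    (hdich : ∀ γ : CommEquiv G G, h3_Type1 D γ ∨ h3_Type2 D γ)
    (hnot : ∀ γ : CommEquiv G G, h3_Type1 D γ → h3_Type2 D γ → False) (h : H) :
    h ∈ h3_H0 D F hdich hnot ↔ h3_Type1 D (F.conjTwist h) := Iff.rfl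

theorem h3_index_le (D : CommPlane G) (F : CommEquiv H G)
    (hdich : ∀ γ : CommEquiv G G, h3_Type1 D γ ∨ h3_Type2 D γ)
    (hnot : ∀ γ : CommEquiv G G, h3_Type1 D γ → h3_Type2 D γ → False) :
    (h3_H0 D F hdich hnot).index ≤ 2 := by
  by_cases htop : h3_H0 D F hdich hnot = ⊤
  · rw [htop, Subgroup.index_top]; norm_num
  · have hex : ∃ a, a ∉ h3_H0 D F hdich hnot := by
      by_contra hcon
      apply htop
      rw [Subgroup.eq_top_iff']
      intro a
      by_contra ha
      exact hcon ⟨a, ha⟩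
    obtain ⟨a, ha⟩ := hex
    have ha2 : h3_Type2 D (F.conjTwist a) := (hdich _).resolve_left ha
    have h2 : (h3_H0 D F hdich hnot).index = 2 := by
      rw [Subgroup.index_eq_two_iff]
      refine ⟨a, fun b => ?_⟩
      by_cases hb : b ∈ h3_H0 D F hdich hnot
      · exact Or.inr ⟨hb, fun hba => hnot _ hba (h3_type_12 D F b a hb ha2)⟩
      · have hb2 : h3_Type2 D (F.conjTwist b) := (hdich _).resolve_left hb
        exact Or.inl ⟨h3_type_22 D F b a hb2 ha2, hb⟩
    rw [h2]

/-! ### multiplicativity of `sig` and `rho` -/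

theorem h3_sig_one (D : CommPlane G) (F : CommEquiv H G) (p : Fin 13) : h3_sig D F 1 p = p := by
  unfold h3_sig
  rw [h3_conjTwist_one, h3_xP_cen]

theorem h3_rho_one (D : CommPlane G) (F : CommEquiv H G) (l : Fin 13) : h3_rho D F 1 l = l := by
  unfold h3_rho
  rw [h3_conjTwist_one, h3_xL_axi]

theorem h3_sig_mul (D : CommPlane G) (F : CommEquiv H G) (h k : H)
    (hh : h3_Type1 D (F.conjTwist h)) (p : Fin 13) :
    h3_sig D F (h * k) p = h3_sig D F h (h3_sig D F k p) := by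
  have h1 := (h3_type1_spec D F h hh _ (h3_mem_T_twist D F k _ (h3_xP_mem D p))).1
  unfold h3_sig at h1 ⊢
  rw [h3_conjTwist_mul]
  exact h1

theorem h3_rho_mul (D : CommPlane G) (F : CommEquiv H G) (h k : H)
    (hh : h3_Type1 D (F.conjTwist h)) (l : Fin 13) :
    h3_rho D F (h * k) l = h3_rho D F h (h3_rho D F k l) := by
  have h1 := (h3_type1_spec D F h hh _ (h3_mem_T_twist D F k _ (h3_xL_mem D l))).2
  unfold h3_rho at h1 ⊢
  rw [h3_conjTwist_mul]
  exact h1

/-- the homomorphism to the permutations of the 13 points -/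
noncomputable def h3_phi (D : CommPlane G) (F : CommEquiv H G)
    (hdich : ∀ γ : CommEquiv G G, h3_Type1 D γ ∨ h3_Type2 D γ)
    (hnot : ∀ γ : CommEquiv G G, h3_Type1 D γ → h3_Type2 D γ → False) :
    h3_H0 D F hdich hnot →* Equiv.Perm (Fin 13) where
  toFun h :=
    { toFun := h3_sig D F (h : H)
      invFun := h3_sig D F ((h : H)⁻¹)
      left_inv := fun p => by
        rw [← h3_sig_mul D F _ _ ((h3_H0 D F hdich hnot).inv_mem h.2), inv_mul_cancel, h3_sig_one]
      right_inv := fun p => by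
        rw [← h3_sig_mul D F _ _ h.2, mul_inv_cancel, h3_sig_one] }
  map_one' := Equiv.ext (fun p => h3_sig_one D F p)
  map_mul' a b := Equiv.ext (fun p => h3_sig_mul D F _ _ a.2 p)

theorem h3_phi_apply (D : CommPlane G) (F : CommEquiv H G)
    (hdich : ∀ γ : CommEquiv G G, h3_Type1 D γ ∨ h3_Type2 D γ)
    (hnot : ∀ γ : CommEquiv G G, h3_Type1 D γ → h3_Type2 D γ → False)
    (h : h3_H0 D F hdich hnot) (p : Fin 13) :
    h3_phi D F hdich hnot h p = h3_sig D F (h : H) p := rfl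

/-- incident pairs go to incident pairs -/
theorem h3_inc_of_inc (D : CommPlane G) (F : CommEquiv H G) (h : H)
    (hh : h3_Type1 D (F.conjTwist h)) (p l : Fin 13) (hpl : D.inc p l = true) :
    D.inc (h3_sig D F h p) (h3_rho D F h l) = true := by
  obtain ⟨x, hx, h1, h2⟩ := h3_exists_flag D p l hpl
  have h3 := h3_type1_spec D F h hh x hx
  have h4 := D.inc_T _ (h3_mem_T_twist D F h x hx)
  rw [h3.1, h3.2, h1, h2] at h4
  exact h4

/-- **C5 with the black boxes as hypotheses.** -/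
theorem h3_exists_action (D : CommPlane G) (F : CommEquiv H G)
    (hdich : ∀ γ : CommEquiv G G, h3_Type1 D γ ∨ h3_Type2 D γ)
    (hnot : ∀ γ : CommEquiv G G, h3_Type1 D γ → h3_Type2 D γ → False)
    (hker : ∀ k : H, (∀ y : H, F y ∈ D.T → D.cen (F (k * y * k⁻¹)) = D.cen (F y) ∧
      D.axi (F (k * y * k⁻¹)) = D.axi (F y)) → k = 1) :
    ∃ (H0 : Subgroup H) (φ : H0 →* Equiv.Perm (Fin 13)), H0.index ≤ 2 ∧ Function.Injective φ ∧
      ∀ (h : H0) (l : Fin 13), ∃ m : Fin 13, ∀ p : Fin 13, D.inc (φ h p) m = D.inc p l := by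
  refine ⟨h3_H0 D F hdich hnot, h3_phi D F hdich hnot, h3_index_le D F hdich hnot, ?_, ?_⟩
  · -- injectivity
    rw [injective_iff_map_eq_one]
    intro h hh1
    have hsig : ∀ p, h3_sig D F (h : H) p = p := by
      intro p
      rw [← h3_phi_apply D F hdich hnot h p, hh1]
      rfl
    -- `rho = id`
    have hrho : ∀ l, h3_rho D F (h : H) l = l := by
      intro l
      obtain ⟨p, q, hpq, hp, hq⟩ := h3_exists_two_points D l
      have h1 := h3_inc_of_inc D F (h : H) h.2 p l hp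
      have h2 := h3_inc_of_inc D F (h : H) h.2 q l hq
      rw [hsig] at h1 h2
      obtain ⟨m, -, hm⟩ := D.join p q hpq
      rw [hm _ ⟨h1, h2⟩, hm l ⟨hp, hq⟩]
    have hk : (h : H) = 1 := by
      apply hker
      intro y hy
      have h3 := h3_type1_spec D F (h : H) h.2 (F y) hy
      rw [F.conjTwist_apply, hsig, hrho] at h3
      exact h3
    exact Subtype.ext hk
  · -- lines go to lines
    intro h l
    refine ⟨h3_rho D F (h : H) l, fun p => ?_⟩
    rw [h3_phi_apply]
    have hinv : h3_Type1 D (F.conjTwist ((h : H)⁻¹)) := (h3_H0 D F hdich hnot).inv_mem h.2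
    cases hpl : D.inc p l with
    | true => exact h3_inc_of_inc D F (h : H) h.2 p l hpl
    | false =>
      by_contra hcon
      rw [Bool.not_eq_false] at hcon
      have h1 := h3_inc_of_inc D F ((h : H)⁻¹) hinv _ _ hcon
      rw [← h3_sig_mul D F _ _ hinv, ← h3_rho_mul D F _ _ hinv, inv_mul_cancel, h3_sig_one,
        h3_rho_one, hpl] at h1
      exact Bool.false_ne_true h1

end Cfsg.Agent.L33C
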