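import Cfsg.Agent.L33C.H4_Dichotomy

/-!
# S3412, piece C5: the type-preserving subgroup and its action on the 13 points

For `F : CommEquiv H G` and `h : H` the twisted conjugation `γ_h = F.conjTwist h` is an automorphism
of the commuting graph of `G`, of type `+` (centre-fibres to centre-fibres) or of type `-`
(`dichotomy`, `not_both`).  The elements of type `+` form a subgroup `H0` of index at most `2`, which
acts on the `13` points (`σ_h`) and on the `13` lines (`ρ_h`) preserving incidence; the action on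
the points is faithful by `kernel_trivial` (C4, a hypothesis of `h4_exists_action` here; the stub
`exists_action` itself is in `L33C/H4_ActionMain.lean`).
-/

set_option autoImplicit false

namespace Cfsg.Agent.L33C

variable {G H : Type*} [Group G] [Group H]

/-- type `+`: centre-fibres to centre-fibres, axis-fibres to axis-fibres. -/
def h4_PlusF (D : CommPlane G) (γ : G → G) : Prop :=
  ∃ σ ρ : Fin 13 → Fin 13, ∀ x ∈ D.T, D.cen (γ x) = σ (D.cen x) ∧ D.axi (γ x) = ρ (D.axi x)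

/-- type `-`: centre-fibres to axis-fibres, axis-fibres to centre-fibres. -/
def h4_MinusF (D : CommPlane G) (γ : G → G) : Prop :=
  ∃ σ ρ : Fin 13 → Fin 13, ∀ x ∈ D.T, D.axi (γ x) = σ (D.cen x) ∧ D.cen (γ x) = ρ (D.axi x)

theorem h4_plusF_dual (D : CommPlane G) (γ : G → G) (h : h4_PlusF D γ) :
    h4_PlusF (h4_dual D) γ := by
  obtain ⟨σ, ρ, hσ⟩ := h
  exact ⟨ρ, σ, fun x hx => ⟨(hσ x hx).2, (hσ x hx).1⟩⟩

theorem h4_plus_plus (D : CommPlane G) (γ₁ γ₂ : G → G) (hT : ∀ x ∈ D.T, γ₂ x ∈ D.T)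
    (h1 : h4_PlusF D γ₁) (h2 : h4_PlusF D γ₂) : h4_PlusF D (fun g => γ₁ (γ₂ g)) := by
  obtain ⟨σ₁, ρ₁, h1⟩ := h1
  obtain ⟨σ₂, ρ₂, h2⟩ := h2
  refine ⟨fun p => σ₁ (σ₂ p), fun l => ρ₁ (ρ₂ l), fun x hx => ?_⟩
  show D.cen (γ₁ (γ₂ x)) = _ ∧ D.axi (γ₁ (γ₂ x)) = _
  rw [(h1 _ (hT x hx)).1, (h1 _ (hT x hx)).2, (h2 x hx).1, (h2 x hx).2]
  exact ⟨rfl, rfl⟩

theorem h4_minus_minus (D : CommPlane G) (γ₁ γ₂ : G → G) (hT : ∀ x ∈ D.T, γ₂ x ∈ D.T)
    (h1 : h4_MinusF D γ₁) (h2 : h4_MinusF D γ₂) : h4_PlusF D (fun g => γ₁ (γ₂ g)) := by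
  obtain ⟨σ₁, ρ₁, h1⟩ := h1
  obtain ⟨σ₂, ρ₂, h2⟩ := h2
  refine ⟨fun p => ρ₁ (σ₂ p), fun l => σ₁ (ρ₂ l), fun x hx => ?_⟩
  show D.cen (γ₁ (γ₂ x)) = _ ∧ D.axi (γ₁ (γ₂ x)) = _
  rw [(h1 _ (hT x hx)).1, (h1 _ (hT x hx)).2, (h2 x hx).1, (h2 x hx).2]
  exact ⟨rfl, rfl⟩

theorem h4_plus_minus (D : CommPlane G) (γ₁ γ₂ : G → G) (hT : ∀ x ∈ D.T, γ₂ x ∈ D.T)
    (h1 : h4_PlusF D γ₁) (h2 : h4_MinusF D γ₂) : h4_MinusF D (fun g => γ₁ (γ₂ g)) := by
  obtain ⟨σ₁, ρ₁, h1⟩ := h1
  obtain ⟨σ₂, ρ₂, h2⟩ := h2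
  refine ⟨fun p => ρ₁ (σ₂ p), fun l => σ₁ (ρ₂ l), fun x hx => ?_⟩
  show D.axi (γ₁ (γ₂ x)) = _ ∧ D.cen (γ₁ (γ₂ x)) = _
  rw [(h1 _ (hT x hx)).1, (h1 _ (hT x hx)).2, (h2 x hx).1, (h2 x hx).2]
  exact ⟨rfl, rfl⟩

theorem h4_minus_plus (D : CommPlane G) (γ₁ γ₂ : G → G) (hT : ∀ x ∈ D.T, γ₂ x ∈ D.T)
    (h1 : h4_MinusF D γ₁) (h2 : h4_PlusF D γ₂) : h4_MinusF D (fun g => γ₁ (γ₂ g)) := by
  obtain ⟨σ₁, ρ₁, h1⟩ := h1
  obtain ⟨σ₂, ρ₂, h2⟩ := h2
  refine ⟨fun p => σ₁ (σ₂ p), fun l => ρ₁ (ρ₂ l), fun x hx => ?_⟩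
  show D.axi (γ₁ (γ₂ x)) = _ ∧ D.cen (γ₁ (γ₂ x)) = _
  rw [(h1 _ (hT x hx)).1, (h1 _ (hT x hx)).2, (h2 x hx).1, (h2 x hx).2]
  exact ⟨rfl, rfl⟩

/-! ### the twisted conjugations -/

theorem h4_tw_one (F : CommEquiv H G) (g : G) : F.conjTwist 1 g = g := by
  obtain ⟨y, rfl⟩ := F.surjective g
  rw [CommEquiv.conjTwist_apply]
  simp

theorem h4_tw_mul (F : CommEquiv H G) (h₁ h₂ : H) (g : G) :
    F.conjTwist (h₁ * h₂) g = F.conjTwist h₁ (F.conjTwist h₂ g) := by
  obtain ⟨y, rfl⟩ := F.surjective g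
  rw [CommEquiv.conjTwist_apply, CommEquiv.conjTwist_apply, CommEquiv.conjTwist_apply]
  congr 1
  group

theorem h4_tw_T (D : CommPlane G) (F : CommEquiv H G) (h : H) : ∀ x ∈ D.T, F.conjTwist h x ∈ D.T :=
  fun x hx => (h4_mem_T_iff D (F.conjTwist h) x).2 hx

/-- `h` is of type `+`. -/
def h4_plus (D : CommPlane G) (F : CommEquiv H G) (h : H) : Prop :=
  h4_PlusF D (fun g => F.conjTwist h g)

/-- `h` is of type `-`. -/
def h4_minus (D : CommPlane G) (F : CommEquiv H G) (h : H) : Prop :=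
  h4_MinusF D (fun g => F.conjTwist h g)

theorem h4_plus_or_minus (D : CommPlane G) (F : CommEquiv H G) (h : H) :
    h4_plus D F h ∨ h4_minus D F h := dichotomy D (F.conjTwist h)

theorem h4_not_plus_minus (D : CommPlane G) (F : CommEquiv H G) (h : H)
    (h1 : h4_plus D F h) (h2 : h4_minus D F h) : False := not_both D (F.conjTwist h) h1 h2

theorem h4_plus_one (D : CommPlane G) (F : CommEquiv H G) : h4_plus D F 1 := by
  refine ⟨id, id, fun x _ => ?_⟩
  show D.cen (F.conjTwist 1 x) = _ ∧ D.axi (F.conjTwist 1 x) = _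
  rw [h4_tw_one]
  exact ⟨rfl, rfl⟩

theorem h4_plus_mul (D : CommPlane G) (F : CommEquiv H G) (h₁ h₂ : H)
    (a : h4_plus D F h₁) (b : h4_plus D F h₂) : h4_plus D F (h₁ * h₂) := by
  have := h4_plus_plus D _ _ (h4_tw_T D F h₂) a b
  unfold h4_plus
  simpa only [h4_tw_mul] using this

theorem h4_minus_mul_minus (D : CommPlane G) (F : CommEquiv H G) (h₁ h₂ : H)
    (a : h4_minus D F h₁) (b : h4_minus D F h₂) : h4_plus D F (h₁ * h₂) := by
  have := h4_minus_minus D _ _ (h4_tw_T D F h₂) a b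
  unfold h4_plus
  simpa only [h4_tw_mul] using this

theorem h4_plus_mul_minus (D : CommPlane G) (F : CommEquiv H G) (h₁ h₂ : H)
    (a : h4_plus D F h₁) (b : h4_minus D F h₂) : h4_minus D F (h₁ * h₂) := by
  have := h4_plus_minus D _ _ (h4_tw_T D F h₂) a b
  unfold h4_minus
  simpa only [h4_tw_mul] using this

theorem h4_minus_mul_plus (D : CommPlane G) (F : CommEquiv H G) (h₁ h₂ : H)
    (a : h4_minus D F h₁) (b : h4_plus D F h₂) : h4_minus D F (h₁ * h₂) := by
  have := h4_minus_plus D _ _ (h4_tw_T D F h₂) a b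
  unfold h4_minus
  simpa only [h4_tw_mul] using this

theorem h4_plus_inv (D : CommPlane G) (F : CommEquiv H G) (h : H) (a : h4_plus D F h) :
    h4_plus D F h⁻¹ := by
  rcases h4_plus_or_minus D F h⁻¹ with b | b
  · exact b
  · exfalso
    have := h4_plus_mul_minus D F h h⁻¹ a b
    rw [mul_inv_cancel] at this
    exact h4_not_plus_minus D F 1 (h4_plus_one D F) this

/-- the subgroup of the elements of type `+`. -/
def h4_H0 (D : CommPlane G) (F : CommEquiv H G) : Subgroup H where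
  carrier := {h | h4_plus D F h}
  one_mem' := h4_plus_one D F
  mul_mem' := fun {a b} ha hb => h4_plus_mul D F a b ha hb
  inv_mem' := fun {a} ha => h4_plus_inv D F a ha

theorem h4_mem_H0 (D : CommPlane G) (F : CommEquiv H G) (h : H) :
    h ∈ h4_H0 D F ↔ h4_plus D F h := Iff.rfl

theorem h4_index_H0 (D : CommPlane G) (F : CommEquiv H G) : (h4_H0 D F).index ≤ 2 := by
  by_cases htop : h4_H0 D F = ⊤
  · rw [htop, Subgroup.index_top]; norm_num
  · have : ∃ a, a ∉ h4_H0 D F := by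
      by_contra hcon
      push Not at hcon
      exact htop (eq_top_iff.2 fun a _ => hcon a)
    obtain ⟨a, ha⟩ := this
    have ha' : h4_minus D F a := by
      rcases h4_plus_or_minus D F a with h' | h'
      · exact absurd h' ha
      · exact h'
    have : (h4_H0 D F).index = 2 := by
      rw [Subgroup.index_eq_two_iff_exists_notMem_and]
      refine ⟨a, ha, fun b => ?_⟩
      rcases h4_plus_or_minus D F b with h' | h'
      · exact Or.inr h'
      · exact Or.inl (h4_minus_mul_minus D F b a h' ha')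
    rw [this]

/-! ### representatives of the fibres and the induced maps on points and lines -/

theorem h4_exists_cen (D : CommPlane G) (p : Fin 13) : ∃ x ∈ D.T, D.cen x = p := by
  obtain ⟨l, hl⟩ := h4_exists_point (h4_dual D) p
  obtain ⟨x, hx, hxc, -⟩ := h4_flag D p l hl
  exact ⟨x, hx, hxc⟩

/-- a transvection with centre `p`. -/
noncomputable def h4_rep (D : CommPlane G) (p : Fin 13) : G := Classical.choose (h4_exists_cen D p)

theorem h4_rep_mem (D : CommPlane G) (p : Fin 13) : h4_rep D p ∈ D.T :=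
  (Classical.choose_spec (h4_exists_cen D p)).1

theorem h4_rep_cen (D : CommPlane G) (p : Fin 13) : D.cen (h4_rep D p) = p :=
  (Classical.choose_spec (h4_exists_cen D p)).2

/-- the map induced by `γ_h` on the points (meaningful for `h` of type `+`). -/
noncomputable def h4_s (D : CommPlane G) (F : CommEquiv H G) (h : H) (p : Fin 13) : Fin 13 :=
  D.cen (F.conjTwist h (h4_rep D p))

theorem h4_s_spec (D : CommPlane G) (F : CommEquiv H G) (h : H) (a : h4_plus D F h) :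
    ∀ x ∈ D.T, D.cen (F.conjTwist h x) = h4_s D F h (D.cen x) := by
  obtain ⟨σ, ρ, hσ⟩ := a
  intro x hx
  have e1 := (hσ x hx).1
  have e2 := (hσ _ (h4_rep_mem D (D.cen x))).1
  rw [h4_rep_cen] at e2
  show D.cen (F.conjTwist h x) = D.cen (F.conjTwist h (h4_rep D (D.cen x)))
  exact e1.trans e2.symm

theorem h4_s_one (D : CommPlane G) (F : CommEquiv H G) (p : Fin 13) : h4_s D F 1 p = p := by
  unfold h4_s
  rw [h4_tw_one, h4_rep_cen]

theorem h4_s_mul (D : CommPlane G) (F : CommEquiv H G) (h₁ h₂ : H) (a : h4_plus D F h₁)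
    (p : Fin 13) : h4_s D F (h₁ * h₂) p = h4_s D F h₁ (h4_s D F h₂ p) := by
  show D.cen (F.conjTwist (h₁ * h₂) (h4_rep D p)) = _
  rw [h4_tw_mul, h4_s_spec D F h₁ a _ (h4_tw_T D F h₂ _ (h4_rep_mem D p))]
  rfl

/-- the map induced by `γ_h` on the lines. -/
noncomputable def h4_r (D : CommPlane G) (F : CommEquiv H G) (h : H) (l : Fin 13) : Fin 13 :=
  h4_s (h4_dual D) F h l

theorem h4_plus_dual (D : CommPlane G) (F : CommEquiv H G) (h : H) (a : h4_plus D F h) :
    h4_plus (h4_dual D) F h := h4_plusF_dual D _ a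

theorem h4_r_spec (D : CommPlane G) (F : CommEquiv H G) (h : H) (a : h4_plus D F h) :
    ∀ x ∈ D.T, D.axi (F.conjTwist h x) = h4_r D F h (D.axi x) :=
  h4_s_spec (h4_dual D) F h (h4_plus_dual D F h a)

theorem h4_r_one (D : CommPlane G) (F : CommEquiv H G) (l : Fin 13) : h4_r D F 1 l = l :=
  h4_s_one (h4_dual D) F l

theorem h4_r_mul (D : CommPlane G) (F : CommEquiv H G) (h₁ h₂ : H) (a : h4_plus D F h₁)
    (l : Fin 13) : h4_r D F (h₁ * h₂) l = h4_r D F h₁ (h4_r D F h₂ l) :=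
  h4_s_mul (h4_dual D) F h₁ h₂ (h4_plus_dual D F h₁ a) l

theorem h4_inc_imp (D : CommPlane G) (F : CommEquiv H G) (h : H) (a : h4_plus D F h)
    (p l : Fin 13) (hpl : D.inc p l = true) :
    D.inc (h4_s D F h p) (h4_r D F h l) = true := by
  obtain ⟨x, hx, hxc, hxa⟩ := h4_flag D p l hpl
  have := D.inc_T _ (h4_tw_T D F h x hx)
  rwa [h4_s_spec D F h a x hx, h4_r_spec D F h a x hx, hxc, hxa] at this

theorem h4_inc_eq (D : CommPlane G) (F : CommEquiv H G) (h : H) (a : h4_plus D F h)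
    (p l : Fin 13) : D.inc (h4_s D F h p) (h4_r D F h l) = D.inc p l := by
  cases hpl : D.inc p l with
  | true => exact h4_inc_imp D F h a p l hpl
  | false =>
    cases hpl' : D.inc (h4_s D F h p) (h4_r D F h l) with
    | false => rfl
    | true =>
      have ainv := h4_plus_inv D F h a
      have := h4_inc_imp D F h⁻¹ ainv _ _ hpl'
      rw [← h4_s_mul D F h⁻¹ h ainv, ← h4_r_mul D F h⁻¹ h ainv, inv_mul_cancel, h4_s_one,
        h4_r_one, hpl] at this
      exact this.symm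

/-- `σ_h = id` forces `ρ_h = id`: a line is the join of two of its points. -/
theorem h4_r_eq_of_s (D : CommPlane G) (F : CommEquiv H G) (h : H) (a : h4_plus D F h)
    (hs : ∀ p, h4_s D F h p = p) (l : Fin 13) : h4_r D F h l = l := by
  have h2 : 1 < (Finset.univ.filter (fun q => D.inc q l = true)).card := by
    rw [D.line_card l]; norm_num
  obtain ⟨p, hp, q, hq, hpq⟩ := Finset.one_lt_card.1 h2
  rw [Finset.mem_filter] at hp hq
  have e1 := h4_inc_eq D F h a p l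
  have e2 := h4_inc_eq D F h a q l
  rw [hs, hp.2] at e1
  rw [hs, hq.2] at e2
  obtain ⟨m, -, hm⟩ := D.join p q hpq
  exact (hm _ ⟨e1, e2⟩).trans (hm l ⟨hp.2, hq.2⟩).symm

/-- the action of `H0` on the points, as a monoid homomorphism into `Function.End`. -/
noncomputable def h4_endHom (D : CommPlane G) (F : CommEquiv H G) :
    ↥(h4_H0 D F) →* Function.End (Fin 13) where
  toFun h := h4_s D F h.1
  map_one' := by
    funext p
    exact h4_s_one D F p
  map_mul' := by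
    intro a b
    funext p
    exact h4_s_mul D F a.1 b.1 a.2 p

/-- **C5**, with the statement of C4 (`kernel_trivial`) as a hypothesis. -/
theorem h4_exists_action (D : CommPlane G) (F : CommEquiv H G)
    (hker : ∀ k : H, (∀ y : H, F y ∈ D.T → D.cen (F (k * y * k⁻¹)) = D.cen (F y) ∧
      D.axi (F (k * y * k⁻¹)) = D.axi (F y)) → k = 1) :
    ∃ (H0 : Subgroup H) (φ : H0 →* Equiv.Perm (Fin 13)), H0.index ≤ 2 ∧ Function.Injective φ ∧
      ∀ (h : H0) (l : Fin 13), ∃ m : Fin 13, ∀ p : Fin 13, D.inc (φ h p) m = D.inc p l := by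
  refine ⟨h4_H0 D F, (h4_endHom D F).toHomPerm, h4_index_H0 D F, ?_, ?_⟩
  · rw [injective_iff_map_eq_one]
    intro h hh
    have hs : ∀ p, h4_s D F h.1 p = p := by
      intro p
      have : (h4_endHom D F).toHomPerm h p = (1 : Equiv.Perm (Fin 13)) p := by rw [hh]
      exact this
    have hr : ∀ l, h4_r D F h.1 l = l := h4_r_eq_of_s D F h.1 h.2 hs
    have : h.1 = 1 := by
      apply hker
      intro y hy
      rw [← CommEquiv.conjTwist_apply, h4_s_spec D F h.1 h.2 _ hy, h4_r_spec D F h.1 h.2 _ hy,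
        hs, hr]
      exact ⟨rfl, rfl⟩
    exact Subtype.ext this
  · intro h l
    refine ⟨h4_r D F h.1 l, fun p => ?_⟩
    exact h4_inc_eq D F h.1 h.2 p l

end Cfsg.Agent.L33C
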