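import Cfsg.Agent.L33C.Base

/-!
# S3412, piece C2: the type dichotomy for automorphisms of the commuting graph

An automorphism `γ` of the commuting graph of `G` (a `CommEquiv G G`) preserves the set `T` of
transvections of a `CommPlane G`.  The maximal commuting subsets of `T` are the centre-fibres and
the axis-fibres, so `γ` either maps centre-fibres into centre-fibres and axis-fibres into
axis-fibres, or exchanges the two kinds (`dichotomy`), and not both (`not_both`).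
-/

set_option autoImplicit false

namespace Cfsg.Agent.L33C

variable {G : Type*} [Group G]

/-- the dual plane: centres and axes exchanged. -/
def h4_dual (D : CommPlane G) : CommPlane G where
  T := D.T
  cen := D.axi
  axi := D.cen
  inc := fun l p => D.inc p l
  card_G := D.card_G
  center_triv := D.center_triv
  mem_T := D.mem_T
  sq_ne := D.sq_ne
  inc_T := D.inc_T
  comm_T := fun x hx y hy => (D.comm_T x hx y hy).trans or_comm
  flag_T := fun l p h => by
    obtain ⟨x, hx, h1, h2, h3⟩ := D.flag_T p l h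
    exact ⟨x, hx, h2, h1, fun y hy hy1 hy2 => h3 y hy hy2 hy1⟩
  cent_P := D.cent_L
  cent_L := D.cent_P
  dcent_T := D.dcent_T
  line_card := D.point_card
  point_card := D.line_card
  join := D.meet
  meet := D.join

/-- graph automorphisms preserve `T` (centralizer orders are graph invariants). -/
theorem h4_mem_T_iff (D : CommPlane G) (γ : CommEquiv G G) (g : G) : γ g ∈ D.T ↔ g ∈ D.T := by
  have hcard : Nat.card (Subgroup.centralizer ({g} : Set G)) =
      Nat.card (Subgroup.centralizer ({γ g} : Set G)) := by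
    apply Nat.card_congr
    refine Equiv.subtypeEquiv γ.toEquiv ?_
    intro z
    rw [Subgroup.mem_centralizer_singleton_iff, Subgroup.mem_centralizer_singleton_iff]
    exact γ.comm_iff z g
  rw [D.mem_T, D.mem_T, hcard, Ne, Ne, γ.eq_one_iff]

/-- a commuting subset of `T` lies in one centre-fibre or in one axis-fibre. -/
theorem h4_clique (D : CommPlane G) (S : Set G) (hS : S ⊆ D.T)
    (hc : ∀ x ∈ S, ∀ y ∈ S, x * y = y * x) :
    (∃ p, ∀ x ∈ S, D.cen x = p) ∨ (∃ l, ∀ x ∈ S, D.axi x = l) := by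
  by_cases h : ∃ x0 ∈ S, ∃ x1 ∈ S, D.cen x0 ≠ D.cen x1
  · obtain ⟨x0, h0, x1, h1, hne⟩ := h
    right
    have ha : D.axi x0 = D.axi x1 := by
      rcases (D.comm_T x0 (hS h0) x1 (hS h1)).1 (hc x0 h0 x1 h1) with h | h
      · exact absurd h hne
      · exact h
    refine ⟨D.axi x0, fun x hx => ?_⟩
    rcases (D.comm_T x (hS hx) x0 (hS h0)).1 (hc x hx x0 h0) with h | h
    · rcases (D.comm_T x (hS hx) x1 (hS h1)).1 (hc x hx x1 h1) with h' | h'
      · exact absurd (h.symm.trans h') hne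
      · rw [h', ha]
    · exact h
  · push Not at h
    by_cases hne : S.Nonempty
    · obtain ⟨x0, h0⟩ := hne
      exact Or.inl ⟨D.cen x0, fun x hx => h x hx x0 h0⟩
    · exact Or.inl ⟨0, fun x hx => absurd ⟨x, hx⟩ hne⟩

/-- `γ` maps the centre-fibre of `p` into one centre-fibre. -/
def h4_PP (D : CommPlane G) (γ : CommEquiv G G) (p : Fin 13) : Prop :=
  ∃ p', ∀ x ∈ D.T, D.cen x = p → D.cen (γ x) = p'

/-- `γ` maps the centre-fibre of `p` into one axis-fibre. -/
def h4_PL (D : CommPlane G) (γ : CommEquiv G G) (p : Fin 13) : Prop :=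
  ∃ l', ∀ x ∈ D.T, D.cen x = p → D.axi (γ x) = l'

/-- the image of a centre-fibre is a commuting subset of `T`. -/
theorem h4_PP_or_PL (D : CommPlane G) (γ : CommEquiv G G) (p : Fin 13) :
    h4_PP D γ p ∨ h4_PL D γ p := by
  have key := h4_clique D (γ '' {x | x ∈ D.T ∧ D.cen x = p})
    (by
      rintro _ ⟨x, ⟨hx, -⟩, rfl⟩
      exact (h4_mem_T_iff D γ x).2 hx)
    (by
      rintro _ ⟨x, ⟨hx, hxp⟩, rfl⟩ _ ⟨y, ⟨hy, hyp⟩, rfl⟩
      exact (γ.comm_iff x y).1 ((D.comm_T x hx y hy).2 (Or.inl (hxp.trans hyp.symm))))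
  rcases key with ⟨p', hp'⟩ | ⟨l', hl'⟩
  · exact Or.inl ⟨p', fun x hx hxp => hp' _ ⟨x, ⟨hx, hxp⟩, rfl⟩⟩
  · exact Or.inr ⟨l', fun x hx hxp => hl' _ ⟨x, ⟨hx, hxp⟩, rfl⟩⟩

/-- for a point `p` and a line `l` there are a transvection with centre `p` and a transvection with
axis `l` which do not commute. -/
theorem h4_noncomm (D : CommPlane G) (p l : Fin 13) :
    ∃ y ∈ D.T, ∃ z ∈ D.T, D.cen y = p ∧ D.axi z = l ∧ ¬ (y * z = z * y) := by
  -- another line through `p`
  have h1 : 1 < (Finset.univ.filter (fun m => D.inc p m = true)).card := by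
    rw [D.point_card p]; norm_num
  obtain ⟨l2, hl2, hne2⟩ := Finset.exists_mem_ne h1 l
  rw [Finset.mem_filter] at hl2
  -- another point on `l`
  have h2 : 1 < (Finset.univ.filter (fun q => D.inc q l = true)).card := by
    rw [D.line_card l]; norm_num
  obtain ⟨q, hq, hneq⟩ := Finset.exists_mem_ne h2 p
  rw [Finset.mem_filter] at hq
  obtain ⟨y, hy, hyc, hya, -⟩ := D.flag_T p l2 hl2.2
  obtain ⟨z, hz, hzc, hza, -⟩ := D.flag_T q l hq.2
  refine ⟨y, hy, z, hz, hyc, hza, fun hcomm => ?_⟩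
  rcases (D.comm_T y hy z hz).1 hcomm with h' | h'
  · rw [hyc, hzc] at h'; exact hneq h'.symm
  · rw [hya, hza] at h'; exact hne2 h'

/-- there is a transvection in every flag. -/
theorem h4_flag (D : CommPlane G) (p l : Fin 13) (h : D.inc p l = true) :
    ∃ x ∈ D.T, D.cen x = p ∧ D.axi x = l := by
  obtain ⟨x, hx, hxc, hxa, -⟩ := D.flag_T p l h
  exact ⟨x, hx, hxc, hxa⟩

/-- first incidence rule: the centre-fibre of `p` and the axis-fibre of `l ∋ p` are not both mapped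
into centre-fibres. -/
theorem h4_rule1 (D : CommPlane G) (γ : CommEquiv G G) (p l : Fin 13) (h : D.inc p l = true) :
    ¬ (h4_PP D γ p ∧ h4_PL (h4_dual D) γ l) := by
  rintro ⟨⟨p', hp'⟩, ⟨q', hq'⟩⟩
  obtain ⟨x, hx, hxc, hxa⟩ := h4_flag D p l h
  have e : p' = q' := (hp' x hx hxc).symm.trans (hq' x hx hxa)
  obtain ⟨y, hy, z, hz, hyc, hza, hn⟩ := h4_noncomm D p l
  apply hn
  rw [γ.comm_iff y z]
  refine (D.comm_T _ ((h4_mem_T_iff D γ y).2 hy) _ ((h4_mem_T_iff D γ z).2 hz)).2 (Or.inl ?_)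
  rw [hp' y hy hyc, e]
  exact (hq' z hz hza).symm

/-- second incidence rule: the centre-fibre of `p` and the axis-fibre of `l ∋ p` are not both mapped
into axis-fibres. -/
theorem h4_rule2 (D : CommPlane G) (γ : CommEquiv G G) (p l : Fin 13) (h : D.inc p l = true) :
    ¬ (h4_PL D γ p ∧ h4_PP (h4_dual D) γ l) := by
  rintro ⟨⟨l', hl'⟩, ⟨m', hm'⟩⟩
  obtain ⟨x, hx, hxc, hxa⟩ := h4_flag D p l h
  have e : l' = m' := (hl' x hx hxc).symm.trans (hm' x hx hxa)
  obtain ⟨y, hy, z, hz, hyc, hza, hn⟩ := h4_noncomm D p l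
  apply hn
  rw [γ.comm_iff y z]
  refine (D.comm_T _ ((h4_mem_T_iff D γ y).2 hy) _ ((h4_mem_T_iff D γ z).2 hz)).2 (Or.inr ?_)
  rw [hl' y hy hyc, e]
  exact (hm' z hz hza).symm

/-- along a flag the types agree. -/
theorem h4_PP_iff (D : CommPlane G) (γ : CommEquiv G G) (p l : Fin 13) (h : D.inc p l = true) :
    h4_PP D γ p ↔ h4_PP (h4_dual D) γ l := by
  constructor
  · intro hp
    rcases h4_PP_or_PL (h4_dual D) γ l with h' | h'
    · exact h'
    · exact absurd ⟨hp, h'⟩ (h4_rule1 D γ p l h)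
  · intro hl
    rcases h4_PP_or_PL D γ p with h' | h'
    · exact h'
    · exact absurd ⟨h', hl⟩ (h4_rule2 D γ p l h)

/-- all points have the same type. -/
theorem h4_PP_point (D : CommPlane G) (γ : CommEquiv G G) (p q : Fin 13) :
    h4_PP D γ p ↔ h4_PP D γ q := by
  by_cases hpq : p = q
  · rw [hpq]
  · obtain ⟨l, ⟨hl1, hl2⟩, -⟩ := D.join p q hpq
    exact (h4_PP_iff D γ p l hl1).trans (h4_PP_iff D γ q l hl2).symm

/-- every line has a point. -/
theorem h4_exists_point (D : CommPlane G) (l : Fin 13) : ∃ p, D.inc p l = true := by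
  have h2 : 0 < (Finset.univ.filter (fun q => D.inc q l = true)).card := by
    rw [D.line_card l]; norm_num
  obtain ⟨q, hq⟩ := Finset.card_pos.1 h2
  rw [Finset.mem_filter] at hq
  exact ⟨q, hq.2⟩

/-- **C2, dichotomy.** -/
theorem dichotomy (D : CommPlane G) (γ : CommEquiv G G) :
    (∃ σ ρ : Fin 13 → Fin 13, ∀ x ∈ D.T,
      D.cen (γ x) = σ (D.cen x) ∧ D.axi (γ x) = ρ (D.axi x)) ∨
    (∃ σ ρ : Fin 13 → Fin 13, ∀ x ∈ D.T,
      D.axi (γ x) = σ (D.cen x) ∧ D.cen (γ x) = ρ (D.axi x)) := by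
  by_cases h0 : h4_PP D γ 0
  · left
    have hP : ∀ p, h4_PP D γ p := fun p => (h4_PP_point D γ 0 p).1 h0
    have hL : ∀ l, h4_PP (h4_dual D) γ l := by
      intro l
      obtain ⟨p, hp⟩ := h4_exists_point D l
      exact (h4_PP_iff D γ p l hp).1 (hP p)
    choose σ hσ using hP
    choose ρ hρ using hL
    exact ⟨σ, ρ, fun x hx => ⟨hσ (D.cen x) x hx rfl, hρ (D.axi x) x hx rfl⟩⟩
  · right
    have hP : ∀ p, h4_PL D γ p := by
      intro p
      rcases h4_PP_or_PL D γ p with h' | h'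
      · exact absurd ((h4_PP_point D γ 0 p).2 h') h0
      · exact h'
    have hL : ∀ l, h4_PL (h4_dual D) γ l := by
      intro l
      obtain ⟨p, hp⟩ := h4_exists_point D l
      rcases h4_PP_or_PL (h4_dual D) γ l with h' | h'
      · exact absurd ((h4_PP_point D γ 0 p).2 ((h4_PP_iff D γ p l hp).2 h')) h0
      · exact h'
    choose σ hσ using hP
    choose ρ hρ using hL
    exact ⟨σ, ρ, fun x hx => ⟨hσ (D.cen x) x hx rfl, hρ (D.axi x) x hx rfl⟩⟩

/-- **C2, the two types exclude each other.** -/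
theorem not_both (D : CommPlane G) (γ : CommEquiv G G)
    (h1 : ∃ σ ρ : Fin 13 → Fin 13, ∀ x ∈ D.T,
      D.cen (γ x) = σ (D.cen x) ∧ D.axi (γ x) = ρ (D.axi x))
    (h2 : ∃ σ ρ : Fin 13 → Fin 13, ∀ x ∈ D.T,
      D.axi (γ x) = σ (D.cen x) ∧ D.cen (γ x) = ρ (D.axi x)) : False := by
  obtain ⟨σ, ρ, h1⟩ := h1
  obtain ⟨σ', ρ', h2⟩ := h2
  obtain ⟨p, hp⟩ := h4_exists_point D 0
  refine h4_rule1 D γ p 0 hp ⟨⟨σ p, fun x hx hxc => ?_⟩, ⟨ρ' 0, fun x hx hxa => ?_⟩⟩
  · rw [(h1 x hx).1, hxc]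
  · have := (h2 x hx).2
    change D.axi x = 0 at hxa
    change D.cen (γ x) = ρ' 0
    rw [this, hxa]

end Cfsg.Agent.L33C
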