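import Mathlib
import Cfsg.Agent.L33C.Base
import Cfsg.Agent.L33C.SLDefs

/-!
# S3412, piece C0 (helper8): adapters

* `exists_commEquiv`: the bijection between the non-identity elements of the statement extends by
  `1 ↦ 1` to a `CommEquiv`.
* `sl_equiv_psl`: `SL₃(3) ≃* PSL₃(3)` (the centre of `SL₃(3)` is trivial).
-/

set_option autoImplicit false

namespace Cfsg.Agent.L33C

open Cfsg

variable {G H : Type*} [Group G] [Group H]

/-- the extension of `f` by `1 ↦ 1` -/
noncomputable def h8_extend (f : {h : H // h ≠ 1} ≃ {g : G // g ≠ 1}) : H ≃ G := by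
  classical
  exact
    { toFun := fun h => if hh : h = 1 then 1 else ((f ⟨h, hh⟩ : {g : G // g ≠ 1}) : G)
      invFun := fun g => if hg : g = 1 then 1 else ((f.symm ⟨g, hg⟩ : {h : H // h ≠ 1}) : H)
      left_inv := by
        intro h
        by_cases hh : h = 1
        · simp [hh]
        · have h1 : ((f ⟨h, hh⟩ : {g : G // g ≠ 1}) : G) ≠ 1 := (f ⟨h, hh⟩).2
          simp [hh, h1]
      right_inv := by
        intro g
        by_cases hg : g = 1
        · simp [hg]
        · have h1 : ((f.symm ⟨g, hg⟩ : {h : H // h ≠ 1}) : H) ≠ 1 := (f.symm ⟨g, hg⟩).2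
          simp [hg, h1] }

theorem h8_extend_one (f : {h : H // h ≠ 1} ≃ {g : G // g ≠ 1}) : h8_extend f 1 = 1 := by
  classical
  simp [h8_extend]

theorem h8_extend_of_ne (f : {h : H // h ≠ 1} ≃ {g : G // g ≠ 1}) (h : H) (hh : h ≠ 1) :
    h8_extend f h = ((f ⟨h, hh⟩ : {g : G // g ≠ 1}) : G) := by
  classical
  simp [h8_extend, hh]

/-- extend `f` by `1 ↦ 1` (classical decidability). -/
theorem exists_commEquiv
    (f : {h : H // h ≠ 1} ≃ {g : G // g ≠ 1})
    (hf : ∀ x y : {h : H // h ≠ 1}, (x : H) * y = y * x ↔ ((f x) : G) * (f y) = (f y) * (f x)) :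
    Nonempty (CommEquiv H G) := by
  refine ⟨⟨h8_extend f, h8_extend_one f, ?_⟩⟩
  intro x y
  by_cases hx : x = 1
  · subst hx
    rw [h8_extend_one]
    simp
  by_cases hy : y = 1
  · subst hy
    rw [h8_extend_one]
    simp
  rw [h8_extend_of_ne f x hx, h8_extend_of_ne f y hy]
  exact hf ⟨x, hx⟩ ⟨y, hy⟩

theorem h8_cube_eq_one : ∀ r : ZMod 3, r ^ 3 = 1 → r = 1 := by decide

theorem h8_center_S33 : Subgroup.center S33 = ⊥ := by
  rw [Subgroup.eq_bot_iff_forall]
  intro A hA
  rw [Matrix.SpecialLinearGroup.mem_center_iff] at hA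
  obtain ⟨r, hr, hA⟩ := hA
  have hr1 : r = 1 := h8_cube_eq_one r (by simpa using hr)
  subst hr1
  apply Subtype.ext
  rw [← hA]
  simp

/-- the centre of `SL₃(3)` is trivial (`Matrix.SpecialLinearGroup.mem_center_iff`: `r ^ 3 = 1` in
`ZMod 3` forces `r = 1`), so `SL₃(3) ≃* PSL₃(3)` (`QuotientGroup.quotientBot`). -/
theorem sl_equiv_psl :
    Nonempty (S33 ≃* Matrix.ProjectiveSpecialLinearGroup (Fin 3) (ZMod 3)) := by
  refine ⟨(QuotientGroup.quotientBot (G := S33)).symm.trans ?_⟩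
  exact QuotientGroup.quotientMulEquivOfEq h8_center_S33.symm

end Cfsg.Agent.L33C
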