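import Mathlib
import Cfsg.Prelude.Def_Sporadic_a
import Cfsg.Agent.L33U.H9_PlaneIso
import Cfsg.Agent.Helper7.PSLSimple

/-!
# S3412, piece C6 (helper8): P9 as an injective homomorphism; no subgroup of index 2

`plane_hom`: the proof of `L33U.h9_plane` (helper9) up to the construction of `φ'`, for a group
whose order is divisible by 13.  `card_ne_2808`: `setSystemAut B13 ≃* PSL₃(3)` is simple of order
5616, so it has no subgroup of index 2.
-/

set_option autoImplicit false
set_option linter.style.haveILetI false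

namespace Cfsg.Agent.L33C

open Cfsg Cfsg.Agent.L33U
open scoped Pointwise

/-- copy of the proof of `L33U.h9_plane` (file `L33U/H9_Plane.lean`) up to the construction of `φ'`,
with `13 ∣ Nat.card K` instead of `Nat.card K = 5616`. -/
theorem plane_hom {K : Type*} [Group K] [Finite K] (h13 : 13 ∣ Nat.card K) {Ω : Type*}
    [Fintype Ω] [DecidableEq Ω] [MulAction K Ω] [FaithfulSMul K Ω] (hΩ : Fintype.card Ω = 13)
    (B : Set (Finset Ω)) (hB : Cfsg.IsSteinerSystem 2 4 B)
    (hinv : ∀ g : K, ∀ b ∈ B, b.image (fun ω => g • ω) ∈ B) :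
    ∃ φ : K →* ↥(Cfsg.setSystemAut Cfsg.Agent.L33U.B13), Function.Injective φ := by
  classical
  -- an element of order 13
  obtain ⟨s, hs⟩ := exists_prime_orderOf_dvd_card' (G := K) 13 h13
  have hs1 : s ≠ 1 := by
    intro h; rw [h, orderOf_one] at hs; norm_num at hs
  obtain ⟨ω0, hω⟩ : ∃ ω0 : Ω, s • ω0 ≠ ω0 := by
    by_contra hcon
    push Not at hcon
    exact hs1 (FaithfulSMul.eq_of_smul_eq_smul (α := Ω) (fun ω => by rw [hcon ω, one_smul]))
  obtain ⟨e, he⟩ := h9_exists_cycle_equiv hΩ s hs ω0 hω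
  -- pull back the blocks
  let B' : Set (Finset (ZMod 13)) := {b | b.map e.toEmbedding ∈ B}
  have hB' : IsSteinerSystem 2 4 B' := by
    refine ⟨fun b hb => ?_, fun t ht => ?_⟩
    · have := hB.1 _ hb
      rwa [Finset.card_map] at this
    · obtain ⟨X, ⟨hXB, hXs⟩, hXu⟩ := hB.2 (t.map e.toEmbedding) (by rw [Finset.card_map]; exact ht)
      have hXe : (X.map e.symm.toEmbedding).map e.toEmbedding = X := by
        rw [Finset.map_map]
        ext x; simp
      refine ⟨X.map e.symm.toEmbedding, ⟨?_, ?_⟩, ?_⟩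
      · show (X.map e.symm.toEmbedding).map e.toEmbedding ∈ B
        rw [hXe]; exact hXB
      · rw [← Finset.map_subset_map (f := e.toEmbedding), hXe]; exact hXs
      · rintro b2 ⟨hb2, hb2s⟩
        have := hXu (b2.map e.toEmbedding) ⟨hb2, Finset.map_subset_map.mpr hb2s⟩
        rw [← this, Finset.map_map]
        ext x; simp
  have hinv' : ∀ b ∈ B', h9_tr b 1 ∈ B' := by
    intro b hb
    show (h9_tr b 1).map e.toEmbedding ∈ B
    have := hinv s _ hb
    convert this using 1
    unfold h9_tr
    rw [Finset.map_eq_image, Finset.map_eq_image, Finset.image_image, Finset.image_image]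
    apply Finset.image_congr
    intro x _
    simp only [Function.comp, Equiv.coe_toEmbedding]
    exact he x
  obtain ⟨π, hπ⟩ := h9_cyclic B' hB' hinv'
  -- the good identification
  let e' : ZMod 13 ≃ Ω := π.trans e
  have hline : ∀ i, (h9_line i).map e'.toEmbedding ∈ B := by
    intro i
    have : (h9_line i).image π ∈ B' := (hπ _).mpr ⟨i, rfl⟩
    have h2 : ((h9_line i).image π).map e.toEmbedding ∈ B := this
    convert h2 using 1
    rw [Finset.map_eq_image, Finset.map_eq_image, Finset.image_image]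
    rfl
  have hblock : ∀ X ∈ B, ∃ i, X = (h9_line i).map e'.toEmbedding := by
    intro X hX
    have hXe : (X.map e.symm.toEmbedding).map e.toEmbedding = X := by
      rw [Finset.map_map]
      ext x; simp
    have : X.map e.symm.toEmbedding ∈ B' := by
      show (X.map e.symm.toEmbedding).map e.toEmbedding ∈ B
      rw [hXe]; exact hX
    obtain ⟨i, hi⟩ := (hπ _).mp this
    refine ⟨i, ?_⟩
    rw [← hXe, hi, Finset.map_eq_image, Finset.map_eq_image, Finset.image_image]
    rfl
  -- the homomorphism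
  let φ : K →* Equiv.Perm (ZMod 13) :=
    (e'.symm.permCongrHom.toMonoidHom).comp (MulAction.toPermHom K Ω)
  have hφ_apply : ∀ g x, φ g x = e'.symm (g • e' x) := fun g x => rfl
  have hφinj : Function.Injective φ := by
    intro g h hgh
    have : MulAction.toPermHom K Ω g = MulAction.toPermHom K Ω h :=
      e'.symm.permCongrHom.injective hgh
    exact MulAction.toPerm_injective this
  have hφmem : ∀ g, φ g ∈ setSystemAut h9_B0 := by
    intro g
    show φ g ∈ MulAction.stabilizer (Equiv.Perm (ZMod 13)) (Set.range h9_line)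
    rw [MulAction.mem_stabilizer_set_iff_smul_set_subset (Set.finite_range _)]
    rintro _ ⟨_, ⟨i, rfl⟩, rfl⟩
    obtain ⟨j, hj⟩ := hblock _ (hinv g _ (hline i))
    refine ⟨j, ?_⟩
    apply Finset.map_injective e'.toEmbedding
    rw [← hj]
    ext x
    simp only [Finset.mem_image, Finset.mem_map, Equiv.coe_toEmbedding, Finset.mem_smul_finset]
    constructor
    · rintro ⟨a, ⟨y, hy, rfl⟩, rfl⟩
      refine ⟨φ g y, ⟨y, hy, rfl⟩, ?_⟩
      rw [hφ_apply]; simp
    · rintro ⟨a, ⟨y, hy, rfl⟩, rfl⟩
      refine ⟨e' y, ⟨y, hy, rfl⟩, ?_⟩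
      show g • e' y = e' (φ g y)
      rw [hφ_apply]; simp
  let φ' : K →* setSystemAut h9_B0 := φ.codRestrict _ hφmem
  have hφ'inj : Function.Injective φ' := by
    intro g h hgh
    exact hφinj (congrArg Subtype.val hgh)
  exact ⟨φ', hφ'inj⟩

theorem h8_card_aut_B13 : Nat.card ↥(Cfsg.setSystemAut Cfsg.Agent.L33U.B13) = 5616 := by
  obtain ⟨e⟩ := psl_iso
  rw [← Nat.card_congr e.toEquiv]
  exact h1_card_PSL33

theorem h8_simple_aut_B13 : IsSimpleGroup ↥(Cfsg.setSystemAut Cfsg.Agent.L33U.B13) := by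
  obtain ⟨e⟩ := psl_iso
  haveI : IsSimpleGroup (Matrix.ProjectiveSpecialLinearGroup (Fin 3) (ZMod 3)) :=
    Cfsg.Agent.Helper7.Transv.isSimpleGroup_PSL (F := ZMod 3) (le_refl 3)
  exact e.symm.isSimpleGroup

/-- `setSystemAut B13 ≃* PSL₃(3)` (`L33U.psl_iso`) is simple (`Helper7.Transv.isSimpleGroup_PSL`), of
order 5616: a subgroup of index 2 would be normal. -/
theorem card_ne_2808 {K : Type*} [Group K] [Finite K]
    (φ : K →* ↥(Cfsg.setSystemAut Cfsg.Agent.L33U.B13)) (hφ : Function.Injective φ) :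
    Nat.card K ≠ 2808 := by
  intro hK
  haveI : IsSimpleGroup ↥(Cfsg.setSystemAut Cfsg.Agent.L33U.B13) := h8_simple_aut_B13
  have hA := h8_card_aut_B13
  haveI : Finite ↥(Cfsg.setSystemAut Cfsg.Agent.L33U.B13) :=
    Nat.finite_of_card_ne_zero (by rw [hA]; norm_num)
  have hr : Nat.card φ.range = 2808 := by
    rw [← hK]
    exact (Nat.card_congr (MonoidHom.ofInjective hφ).toEquiv).symm
  have hidx : φ.range.index = 2 := by
    have h1 := φ.range.card_mul_index
    rw [hr, hA] at h1
    omega
  haveI : φ.range.Normal := Subgroup.normal_of_index_eq_two hidx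
  rcases (inferInstance : φ.range.Normal).eq_bot_or_eq_top with h0 | h1
  · rw [h0, Subgroup.card_bot] at hr
    omega
  · rw [h1, Subgroup.card_top, hA] at hr
    omega

end Cfsg.Agent.L33C
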