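import Mathlib
import Cfsg.Agent.L33C.Base
import Cfsg.Agent.L33C.H3_Transfer

/-!
# S3412, piece C4: the kernel of the action on flags is trivial

If conjugation by `k : H` fixes the centre and the axis of every element of `T_H = F⁻¹(T)`, then
`k = 1`.
-/

set_option autoImplicit false

namespace Cfsg.Agent.L33C

variable {G H : Type*} [Group G] [Group H]


theorem h9_ne_one (D : CommPlane G) (F : CommEquiv H G) {y : H} (hy : F y ∈ D.T) : y ≠ 1 := by
  rintro rfl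
  rw [F.map_one] at hy
  exact ((D.mem_T 1).1 hy).1 rfl

theorem h9_ne_inv (D : CommPlane G) (F : CommEquiv H G) [Finite H] {y : H} (hy : F y ∈ D.T) :
    y ≠ y⁻¹ := by
  intro h
  have h3 := (inv_of_mem_T D F y hy).2
  have h2 : y * y = 1 := by
    calc y * y = y * y⁻¹ := by rw [← h]
      _ = 1 := mul_inv_cancel y
  apply h9_ne_one D F hy
  have h4 : y ^ 3 = y * y * y := by rw [pow_succ, pow_two]
  rw [h4, h2, one_mul] at h3
  exact h3

/-- two elements of `T_H` with the same centre and the same axis are equal or inverse. -/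
theorem h9_flag_unique (D : CommPlane G) (F : CommEquiv H G) [Finite H] {y y' : H}
    (hy : F y ∈ D.T) (hy' : F y' ∈ D.T) (hc : D.cen (F y') = D.cen (F y))
    (ha : D.axi (F y') = D.axi (F y)) : y' = y ∨ y' = y⁻¹ := by
  obtain ⟨x, hx, hxc, hxa, hxu⟩ := D.flag_T _ _ (D.inc_T _ hy)
  have h1 := hxu (F y) hy rfl rfl
  have h2 := hxu (F y') hy' hc ha
  have hinv := (inv_of_mem_T D F y hy).1
  rcases h1 with h1 | h1 <;> rcases h2 with h2 | h2
  · left; apply F.injective; rw [h1, h2]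
  · right; apply F.injective; rw [hinv, h1, h2]
  · right; apply F.injective; rw [hinv, h1, h2, inv_inv]
  · left; apply F.injective; rw [h1, h2]

theorem h9_mul_mem_cen (D : CommPlane G) (F : CommEquiv H G) {y₁ y₂ : H}
    (h1 : F y₁ ∈ D.T) (h2 : F y₂ ∈ D.T) (p : Fin 13) (hc1 : D.cen (F y₁) = p)
    (hc2 : D.cen (F y₂) = p) :
    y₁ * y₂ = 1 ∨ (F (y₁ * y₂) ∈ D.T ∧ D.cen (F (y₁ * y₂)) = p) := by
  have key : ∀ x ∈ D.T, D.cen x = p → F (y₁ * y₂) * x = x * F (y₁ * y₂) := by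
    intro x hx hxc
    obtain ⟨z, rfl⟩ := F.surjective x
    rw [← F.comm_iff]
    have c1 : y₁ * z = z * y₁ :=
      (F.comm_iff _ _).2 ((D.comm_T _ h1 _ hx).2 (Or.inl (hc1.trans hxc.symm)))
    have c2 : y₂ * z = z * y₂ :=
      (F.comm_iff _ _).2 ((D.comm_T _ h2 _ hx).2 (Or.inl (hc2.trans hxc.symm)))
    calc y₁ * y₂ * z = y₁ * (z * y₂) := by rw [mul_assoc, c2]
      _ = z * y₁ * y₂ := by rw [← mul_assoc, c1]
      _ = z * (y₁ * y₂) := mul_assoc _ _ _
  rcases D.cent_P p (F (y₁ * y₂)) key with h | h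
  · left; exact F.eq_one_iff.1 h
  · right; exact h

theorem h9_mul_mem_axi (D : CommPlane G) (F : CommEquiv H G) {y₁ y₂ : H}
    (h1 : F y₁ ∈ D.T) (h2 : F y₂ ∈ D.T) (l : Fin 13) (hc1 : D.axi (F y₁) = l)
    (hc2 : D.axi (F y₂) = l) :
    y₁ * y₂ = 1 ∨ (F (y₁ * y₂) ∈ D.T ∧ D.axi (F (y₁ * y₂)) = l) := by
  have key : ∀ x ∈ D.T, D.axi x = l → F (y₁ * y₂) * x = x * F (y₁ * y₂) := by
    intro x hx hxc
    obtain ⟨z, rfl⟩ := F.surjective x
    rw [← F.comm_iff]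
    have c1 : y₁ * z = z * y₁ :=
      (F.comm_iff _ _).2 ((D.comm_T _ h1 _ hx).2 (Or.inr (hc1.trans hxc.symm)))
    have c2 : y₂ * z = z * y₂ :=
      (F.comm_iff _ _).2 ((D.comm_T _ h2 _ hx).2 (Or.inr (hc2.trans hxc.symm)))
    calc y₁ * y₂ * z = y₁ * (z * y₂) := by rw [mul_assoc, c2]
      _ = z * y₁ * y₂ := by rw [← mul_assoc, c1]
      _ = z * (y₁ * y₂) := mul_assoc _ _ _
  rcases D.cent_L l (F (y₁ * y₂)) key with h | h
  · left; exact F.eq_one_iff.1 h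
  · right; exact h

/-- the core step: if `k` centralizes `y₁` and inverts `y₂`, and these commute, then `y₁ y₂` is
neither `1` nor an element that `k` centralizes or inverts. -/
theorem h9_mixed (D : CommPlane G) (F : CommEquiv H G) [Finite H] (k : H)
    (hA : ∀ y, F y ∈ D.T → k * y * k⁻¹ = y ∨ k * y * k⁻¹ = y⁻¹)
    {y₁ y₂ : H} (h1 : F y₁ ∈ D.T) (h2 : F y₂ ∈ D.T) (hcomm : y₁ * y₂ = y₂ * y₁)
    (hw : y₁ * y₂ = 1 ∨ F (y₁ * y₂) ∈ D.T)
    (hk1 : k * y₁ * k⁻¹ = y₁) : k * y₂ * k⁻¹ = y₂ := by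
  rcases hA y₂ h2 with h | h
  · exact h
  · exfalso
    have hconj : k * (y₁ * y₂) * k⁻¹ = y₁ * y₂⁻¹ := by
      calc k * (y₁ * y₂) * k⁻¹ = (k * y₁ * k⁻¹) * (k * y₂ * k⁻¹) := by group
        _ = y₁ * y₂⁻¹ := by rw [hk1, h]
    rcases hw with hw | hw
    · rw [hw, mul_one, mul_inv_cancel] at hconj
      -- 1 = y₁ * y₂⁻¹, so y₁ = y₂, and y₁ * y₂ = 1 gives y₂ = y₂⁻¹
      have e1 : y₁ = y₂ := by
        have := hconj.symm
        rwa [mul_inv_eq_one] at this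
      rw [e1] at hw
      exact h9_ne_inv D F h2 (eq_inv_of_mul_eq_one_left hw)
    · rcases hA _ hw with h' | h'
      · rw [hconj] at h'
        exact h9_ne_inv D F h2 (mul_left_cancel h').symm
      · rw [hconj, mul_inv_rev] at h'
        have hc : Commute y₁ y₂ := hcomm
        have hc' : y₁ * y₂⁻¹ = y₂⁻¹ * y₁ := hc.inv_right
        rw [hc'] at h'
        exact h9_ne_inv D F h1 (mul_left_cancel h')


/-- `k` behaves in the same way on two elements of `T_H` with the same centre or the same axis. -/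
theorem h9_step (D : CommPlane G) (F : CommEquiv H G) [Finite H] (k : H)
    (hA : ∀ y, F y ∈ D.T → k * y * k⁻¹ = y ∨ k * y * k⁻¹ = y⁻¹)
    {y₁ y₂ : H} (h1 : F y₁ ∈ D.T) (h2 : F y₂ ∈ D.T)
    (hc : D.cen (F y₁) = D.cen (F y₂) ∨ D.axi (F y₁) = D.axi (F y₂))
    (hk1 : k * y₁ * k⁻¹ = y₁) : k * y₂ * k⁻¹ = y₂ := by
  have hcomm : y₁ * y₂ = y₂ * y₁ := (F.comm_iff _ _).2 ((D.comm_T _ h1 _ h2).2 hc)
  refine h9_mixed D F k hA h1 h2 hcomm ?_ hk1
  rcases hc with hc | hc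
  · rcases h9_mul_mem_cen D F h1 h2 _ hc rfl with h | h
    · exact Or.inl h
    · exact Or.inr h.1
  · rcases h9_mul_mem_axi D F h1 h2 _ hc rfl with h | h
    · exact Or.inl h
    · exact Or.inr h.1

/-- connectivity of the flag graph. -/
theorem h9_all (D : CommPlane G) (F : CommEquiv H G) [Finite H] (k : H)
    (hA : ∀ y, F y ∈ D.T → k * y * k⁻¹ = y ∨ k * y * k⁻¹ = y⁻¹)
    {y₁ y₂ : H} (h1 : F y₁ ∈ D.T) (h2 : F y₂ ∈ D.T)
    (hk1 : k * y₁ * k⁻¹ = y₁) : k * y₂ * k⁻¹ = y₂ := by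
  by_cases hpq : D.cen (F y₁) = D.cen (F y₂)
  · exact h9_step D F k hA h1 h2 (Or.inl hpq) hk1
  · obtain ⟨n, ⟨hn1, hn2⟩, -⟩ := D.join _ _ hpq
    obtain ⟨x₁, hx₁, hx₁c, hx₁a, -⟩ := D.flag_T _ _ hn1
    obtain ⟨x₂, hx₂, hx₂c, hx₂a, -⟩ := D.flag_T _ _ hn2
    obtain ⟨z₁, rfl⟩ := F.surjective x₁
    obtain ⟨z₂, rfl⟩ := F.surjective x₂
    have s1 := h9_step D F k hA h1 hx₁ (Or.inl hx₁c.symm) hk1
    have s2 := h9_step D F k hA hx₁ hx₂ (Or.inr (hx₁a.trans hx₂a.symm)) s1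
    exact h9_step D F k hA hx₂ h2 (Or.inl hx₂c) s2

/-- an element centralizing all of `T_H` is trivial. -/
theorem h9_centralizes (D : CommPlane G) (F : CommEquiv H G) (k : H)
    (hk : ∀ y, F y ∈ D.T → k * y * k⁻¹ = y) : k = 1 := by
  have key : ∀ p : Fin 13, ∀ x ∈ D.T, D.cen x = p → F k * x = x * F k := by
    intro p x hx _
    obtain ⟨z, rfl⟩ := F.surjective x
    rw [← F.comm_iff]
    have := hk z hx
    rw [mul_inv_eq_iff_eq_mul] at this
    exact this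
  rcases D.cent_P 0 (F k) (key 0) with h | h
  · exact F.eq_one_iff.1 h
  · rcases D.cent_P 1 (F k) (key 1) with h' | h'
    · exact F.eq_one_iff.1 h'
    · exfalso
      have := h.2.symm.trans h'.2
      exact absurd this (by decide)

theorem h9_exists_mem (D : CommPlane G) (F : CommEquiv H G) : ∃ y : H, F y ∈ D.T := by
  have h4 := D.line_card 0
  have : (Finset.univ.filter (fun p => D.inc p 0 = true)).Nonempty := by
    rw [← Finset.card_pos, h4]; norm_num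
  obtain ⟨p, hp⟩ := this
  rw [Finset.mem_filter] at hp
  obtain ⟨x, hx, -⟩ := D.flag_T _ _ hp.2
  obtain ⟨z, rfl⟩ := F.surjective x
  exact ⟨z, hx⟩

theorem kernel_trivial (D : CommPlane G) (F : CommEquiv H G) [Finite H] (k : H)
    (hk : ∀ y : H, F y ∈ D.T → D.cen (F (k * y * k⁻¹)) = D.cen (F y) ∧
      D.axi (F (k * y * k⁻¹)) = D.axi (F y)) : k = 1 := by
  have hA : ∀ y, F y ∈ D.T → k * y * k⁻¹ = y ∨ k * y * k⁻¹ = y⁻¹ := by
    intro y hy
    exact h9_flag_unique D F hy ((D.mem_T_conj F k y).2 hy) (hk y hy).1 (hk y hy).2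
  obtain ⟨y₀, hy₀⟩ := h9_exists_mem D F
  rcases hA y₀ hy₀ with h0 | h0
  · -- `k` centralizes everything
    exact h9_centralizes D F k (fun y hy => h9_all D F k hA hy₀ hy h0)
  · -- `k` inverts everything
    have hinv : ∀ y, F y ∈ D.T → k * y * k⁻¹ = y⁻¹ := by
      intro y hy
      rcases hA y hy with h | h
      · exfalso
        have := h9_all D F k hA hy hy₀ h
        rw [this] at h0
        exact h9_ne_inv D F hy₀ h0
      · exact h
    -- `k` is central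
    apply F.center_triv D.center_triv
    intro g
    -- `k⁻¹ * (g * k * g⁻¹)` centralizes everything
    have hc : k⁻¹ * (g * k * g⁻¹) = 1 := by
      apply h9_centralizes D F
      intro y hy
      have hy' : F (g⁻¹ * y * g) ∈ D.T := by
        have := (D.mem_T_conj F g⁻¹ y).2 hy
        rwa [inv_inv] at this
      have e1 := hinv _ hy'
      have e2 : g * k * g⁻¹ * y * (g * k * g⁻¹)⁻¹ = y⁻¹ := by
        calc g * k * g⁻¹ * y * (g * k * g⁻¹)⁻¹ = g * (k * (g⁻¹ * y * g) * k⁻¹) * g⁻¹ := by group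
          _ = g * (g⁻¹ * y * g)⁻¹ * g⁻¹ := by rw [e1]
          _ = y⁻¹ := by group
      have e3 : k⁻¹ * y⁻¹ * k = y := by
        rw [← hinv y hy]; group
      calc k⁻¹ * (g * k * g⁻¹) * y * (k⁻¹ * (g * k * g⁻¹))⁻¹
          = k⁻¹ * (g * k * g⁻¹ * y * (g * k * g⁻¹)⁻¹) * k := by group
        _ = k⁻¹ * y⁻¹ * k := by rw [e2]
        _ = y := e3
    have hc' : g * k * g⁻¹ = k := by
      have := eq_inv_of_mul_eq_one_right hc
      rwa [inv_inv] at this
    calc k * g = (g * k * g⁻¹) * g := by rw [hc']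
      _ = g * k := by group

end Cfsg.Agent.L33C
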