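import Mathlib
import Cfsg.Prelude.Def_Sporadic_a
import Cfsg.Agent.L33C.Base
import Cfsg.Agent.L33C.H3_Transfer
import Cfsg.Agent.L33C.H3_Action
import Cfsg.Agent.L33C.H4_Dichotomy
import Cfsg.Agent.L33C.H9_Kernel
import Cfsg.Agent.L33C.H8_PlaneHom
import Cfsg.Agent.L33U.H9_PlaneIso

/-!
# S3412, pieces C5 (assembled) and C7: a group with the commuting graph of a `CommPlane` group is
`PSL₃(3)`.
-/

set_option autoImplicit false

namespace Cfsg.Agent.L33C

open Cfsg

variable {G H : Type*} [Group G] [Group H]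


/-- **C5** (helper3's `h3_exists_action` with the black boxes `dichotomy`, `not_both` (helper4),
`kernel_trivial` plugged in). -/
theorem exists_action (D : CommPlane G) (F : CommEquiv H G) [Finite H] :
    ∃ (H0 : Subgroup H) (φ : H0 →* Equiv.Perm (Fin 13)), H0.index ≤ 2 ∧ Function.Injective φ ∧
      ∀ (h : H0) (l : Fin 13), ∃ m : Fin 13, ∀ p : Fin 13, D.inc (φ h p) m = D.inc p l :=
  h3_exists_action D F (dichotomy D) (fun γ h1 h2 => not_both D γ h1 h2) (kernel_trivial D F)

/-- the line with label `l`, as a set of points. -/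
def h9_lineSet (D : CommPlane G) (l : Fin 13) : Finset (Fin 13) :=
  Finset.univ.filter (fun p => D.inc p l = true)

/-- the lines of the plane. -/
def h9_lines (D : CommPlane G) : Set (Finset (Fin 13)) := Set.range (h9_lineSet D)

theorem h9_mem_lineSet (D : CommPlane G) (l p : Fin 13) :
    p ∈ h9_lineSet D l ↔ D.inc p l = true := by
  simp [h9_lineSet]

theorem h9_steiner (D : CommPlane G) : Cfsg.IsSteinerSystem 2 4 (h9_lines D) := by
  refine ⟨?_, ?_⟩
  · rintro b ⟨l, rfl⟩
    exact D.line_card l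
  · intro s hs
    obtain ⟨p, q, hpq, rfl⟩ := Finset.card_eq_two.1 hs
    obtain ⟨l, ⟨hl1, hl2⟩, hlu⟩ := D.join p q hpq
    refine ⟨h9_lineSet D l, ⟨⟨l, rfl⟩, ?_⟩, ?_⟩
    · intro x hx
      rw [Finset.mem_insert, Finset.mem_singleton] at hx
      rcases hx with rfl | rfl
      · exact (h9_mem_lineSet D l x).2 hl1
      · exact (h9_mem_lineSet D l x).2 hl2
    · rintro b ⟨⟨m, rfl⟩, hsub⟩
      have h1 : D.inc p m = true :=
        (h9_mem_lineSet D m p).1 (hsub (Finset.mem_insert_self _ _))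
      have h2 : D.inc q m = true :=
        (h9_mem_lineSet D m q).1 (hsub (Finset.mem_insert_of_mem (Finset.mem_singleton_self _)))
      rw [hlu m ⟨h1, h2⟩]

theorem iso_of_commPlane (D : CommPlane G) (F : CommEquiv H G) [Finite H] :
    Nonempty (H ≃* Matrix.ProjectiveSpecialLinearGroup (Fin 3) (ZMod 3)) := by
  obtain ⟨H0, φ, hidx, hinj, hline⟩ := exists_action D F
  have hH : Nat.card H = 5616 := F.card_eq.trans D.card_G
  let _ : MulAction H0 (Fin 13) := MulAction.compHom (Fin 13) φ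
  have hsmul : ∀ (h : H0) (p : Fin 13), h • p = φ h p := fun _ _ => rfl
  have : FaithfulSMul H0 (Fin 13) := ⟨fun {h₁ h₂} hh => hinj (Equiv.ext hh)⟩
  have hinv : ∀ h : H0, ∀ b ∈ h9_lines D, b.image (fun ω => h • ω) ∈ h9_lines D := by
    rintro h b ⟨l, rfl⟩
    obtain ⟨m, hm⟩ := hline h l
    refine ⟨m, ?_⟩
    ext q
    rw [h9_mem_lineSet, Finset.mem_image]
    constructor
    · intro hq
      refine ⟨(φ h).symm q, ?_, ?_⟩
      · rw [h9_mem_lineSet, ← hm, Equiv.apply_symm_apply]; exact hq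
      · rw [hsmul, Equiv.apply_symm_apply]
    · rintro ⟨p, hp, rfl⟩
      rw [hsmul, hm]
      exact (h9_mem_lineSet D l p).1 hp
  -- the order of `H0`
  have hmul : Nat.card H0 * H0.index = 5616 := by rw [← hH]; exact H0.card_mul_index
  have hidx0 : H0.index ≠ 0 := by
    intro h0; rw [h0] at hmul; omega
  have hcases : Nat.card H0 = 5616 ∨ Nat.card H0 = 2808 := by
    have : H0.index = 1 ∨ H0.index = 2 := by omega
    rcases this with h | h <;> rw [h] at hmul <;> omega
  have h13 : 13 ∣ Nat.card H0 := by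
    rcases hcases with h | h <;> rw [h] <;> norm_num
  obtain ⟨φ', hφ'⟩ := plane_hom h13 (Fintype.card_fin 13) (h9_lines D) (h9_steiner D) hinv
  have hcard0 : Nat.card H0 = 5616 := by
    rcases hcases with h | h
    · exact h
    · exact absurd h (card_ne_2808 φ' hφ')
  obtain ⟨e⟩ := L33U.iso_of_plane hcard0 (Fintype.card_fin 13) (h9_lines D) (h9_steiner D) hinv
  have htop : H0 = ⊤ := by
    apply Subgroup.eq_top_of_card_eq
    rw [hcard0, hH]
  exact ⟨((MulEquiv.subgroupCongr htop).trans Subgroup.topEquiv).symm.trans e⟩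

end Cfsg.Agent.L33C
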